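import Cfsg.Agent.StdSz.CoverA
import Mathlib
import Cfsg.Agent.GH.Cov.SzCover
import Cfsg.Agent.OddHalf.D9.RankTwo.Core
import Cfsg.Agent.OddHalf.D9.Cut
import Cfsg.Agent.OddHalf.D9.L34Mult.Gamma
import Cfsg.Agent.OddHalf.D9.LemmaW
import Cfsg.Agent.OddHalf.D9.Gamma
import Cfsg.Agent.OddHalf.D9.GamUSix
import Cfsg.Agent.OddHalf.D4.Cut

-- merged: Cfsg.Agent.OddHalf.D9.RankTwo.SzEight
section

/-!
# Covers of `Sz(q)` with even centre: `q = 8`
-/

set_option autoImplicit false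

namespace Cfsg.Agent.OddHalf.D9.RankTwo.SzEight

open scoped commutatorElement
open Cfsg.Agent.StdSz.EquivMaps Cfsg.Agent.StdSz.SzMaps Cfsg.Agent.StdSz.FormAlg
open Cfsg.Agent.StdSz.BorelCoord Cfsg.Agent.StdSz.CoverA

theorem mod16 (a : ℕ) : 2 ^ a % 16 = 1 ∨ 2 ^ a % 16 = 2 ∨ 2 ^ a % 16 = 4 ∨ 2 ^ a % 16 = 8 ∨ 2 ^ a % 16 = 0 := by
  rcases Nat.lt_or_ge a 4 with h | h
  · interval_cases a <;> simp
  · obtain ⟨b, rfl⟩ := Nat.exists_eq_add_of_le h
    right; right; right; right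
    rw [_root_.pow_add]
    omega

theorem three_pow_ne {n a b c : ℕ} (hn : 4 ≤ n) : 2 ^ a + 2 ^ b + 2 ^ c ≠ 2 ^ n - 1 := by
  intro h
  obtain ⟨k, rfl⟩ := Nat.exists_eq_add_of_le hn
  have hk : 1 ≤ 2 ^ k := Nat.one_le_two_pow
  have h1 : 2 ^ (4 + k) = 16 * 2 ^ k := by rw [_root_.pow_add]; norm_num
  have ha := mod16 a
  have hb := mod16 b
  have hc := mod16 c
  omega

/-- the weights `1` and `1 + 2 ^ (m + 1)` have no invariant form for `m ≥ 2`. -/
theorem weights {m i j : ℕ} (hm : 2 ≤ m) (hi : i < 2 * m + 1) (hj : j < 2 * m + 1) :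
    ¬ 1 * 2 ^ i + (1 + 2 ^ (m + 1)) * 2 ^ j ≡ 0 [MOD 2 ^ (2 * m + 1) - 1] := by
  intro h
  set n := 2 * m + 1 with hn
  -- reduce the exponent `j + m + 1` modulo `n`
  obtain ⟨k, hk, hkm⟩ : ∃ k < n, 2 ^ (m + 1) * 2 ^ j ≡ 2 ^ k [MOD 2 ^ n - 1] := by
    rw [← _root_.pow_add]
    rcases Nat.lt_or_ge (m + 1 + j) n with h1 | h1
    · exact ⟨_, h1, rfl⟩
    · obtain ⟨k, hk⟩ := Nat.exists_eq_add_of_le h1
      refine ⟨k, by omega, ?_⟩
      rw [hk, show 2 ^ (n + k) = 2 ^ n * 2 ^ k from _root_.pow_add 2 n k]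
      have h2 : 2 ^ n ≡ 1 [MOD 2 ^ n - 1] := by
        have h3 : 2 ^ n = (2 ^ n - 1) + 1 := by
          have := Nat.one_le_two_pow (n := n)
          omega
        calc 2 ^ n = (2 ^ n - 1) + 1 := h3
          _ ≡ 0 + 1 [MOD 2 ^ n - 1] := Nat.ModEq.add_right 1 (by simp [Nat.ModEq])
          _ = 1 := rfl
      have h4 := h2.mul_right (2 ^ k)
      rwa [one_mul] at h4
  have h1 : 2 ^ i + 2 ^ j + 2 ^ k ≡ 0 [MOD 2 ^ n - 1] := by
    have h2 : 1 * 2 ^ i + (1 + 2 ^ (m + 1)) * 2 ^ j = 2 ^ i + 2 ^ j + 2 ^ (m + 1) * 2 ^ j := by ring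
    rw [h2] at h
    exact (Nat.ModEq.add_left (2 ^ i + 2 ^ j) hkm).symm.trans h
  have h2 : (2 ^ n - 1) ∣ 2 ^ i + 2 ^ j + 2 ^ k := (Nat.modEq_zero_iff_dvd).mp h1
  obtain ⟨r, hr⟩ := h2
  have e : 2 ^ n = 2 * 2 ^ (n - 1) := by
    rw [← pow_succ', show n - 1 + 1 = n by omega]
  have hi' : 2 ^ i ≤ 2 ^ (n - 1) := Nat.pow_le_pow_right (by norm_num) (by omega)
  have hj' : 2 ^ j ≤ 2 ^ (n - 1) := Nat.pow_le_pow_right (by norm_num) (by omega)
  have hk' : 2 ^ k ≤ 2 ^ (n - 1) := Nat.pow_le_pow_right (by norm_num) (by omega)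
  have h8 : 8 ≤ 2 ^ (n - 1) := by
    calc 8 = 2 ^ 3 := by norm_num
      _ ≤ 2 ^ (n - 1) := Nat.pow_le_pow_right (by norm_num) (by omega)
  have pi : 1 ≤ 2 ^ i := Nat.one_le_two_pow
  have pj : 1 ≤ 2 ^ j := Nat.one_le_two_pow
  have pk : 1 ≤ 2 ^ k := Nat.one_le_two_pow
  have hr1 : r = 1 := by
    rcases r with _ | _ | r
    · omega
    · rfl
    · exfalso
      have : (2 ^ n - 1) * 2 ≤ (2 ^ n - 1) * (r + 1 + 1) := Nat.mul_le_mul_left _ (by omega)
      omega
  rw [hr1, mul_one] at hr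
  exact three_pow_ne (by omega) hr

variable {m : ℕ} {F : Type*} [Field F] {S : Type*} [Group S] {A : Type*} [Group A]
  {C : Data m F S} {π : A →* S} {P : Subgroup A} {t : A}

/-- `q = 8`. -/
theorem eight [Fintype F] [CharP F 2] (K : Cov C π P t) (hm : 1 ≤ m)
    (hF : Fintype.card F = 2 ^ (2 * m + 1)) (hcom : (⟨t, K.t_mem⟩ : P) ∈ commutator P) : m = 1 := by
  by_contra hm1
  have hm2 : 2 ≤ m := by omega
  obtain ⟨zh, Z, hval, hleft, -⟩ := K.main hm hF hcom
  choose xl hxP hxl using fun a => K.from_p a 0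
  -- multiplication by an element over `p 0 d` does not matter
  have hkey : ∀ x ∈ P, ∀ x' ∈ P, ∀ a b b', π x = C.p a b → π x' = C.p a b' → ∀ c,
      ⁅x, zh c⁆ = ⁅x', zh c⁆ := by
    intro x hx x' hx' a b b' hab hab' c
    have h1 : x' = x * (x⁻¹ * x') := by group
    have h2 : ⁅x⁻¹ * x', zh c⁆ = 1 :=
      K.comm_z hm hF (P.mul_mem (P.inv_mem hx) hx') (Z.mem c) (Cov.inv_mul_pi hab hab') (Z.pi c)
    rw [h1, K.cl (by rw [h2, map_one]), h2, mul_one]
  have hadd1 : ∀ a a' c, ⁅xl (a + a'), zh c⁆ = ⁅xl a, zh c⁆ * ⁅xl a', zh c⁆ := by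
    intro a a' c
    rw [← K.cl (Cov.pi_comm_zh Z (hxl a') c)]
    exact hkey _ (hxP _) _ (P.mul_mem (hxP _) (hxP _)) _ _ _ (hxl _)
      (by rw [map_mul, hxl, hxl, C.p_mul]) c
  have hadd2 : ∀ a c c', ⁅xl a, zh (c + c')⁆ = ⁅xl a, zh c⁆ * ⁅xl a, zh c'⁆ := by
    intro a c c'
    rw [Z.add, K.cr (Cov.pi_comm_zh Z (hxl a) c')]
  set f : F → F → F := fun a c => Cov.io F ⁅xl a, zh c⁆ with hf
  have hf1 : ∀ x x' y, f (x + x') y = f x y + f x' y := by
    intro a a' c
    simp only [hf]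
    rw [hadd1, K.io_mul (hval _ (hxP _) _) (hval _ (hxP _) _)]
  have hf2 : ∀ x y y', f x (y + y') = f x y + f x y' := by
    intro a c c'
    simp only [hf]
    rw [hadd2, K.io_mul (hval _ (hxP _) _) (hval _ (hxP _) _)]
  have hinv : ∀ μ x y : F, μ ≠ 0 → f (μ * x) (μ ^ (1 + 2 ^ (m + 1)) * y) = f x y := by
    intro l a c hl
    simp only [hf]
    congr 1
    obtain ⟨g, hg⟩ := K.tor (Units.mk0 l hl)
    have h1 := K.pi_conj hg (hxl a)
    rw [Units.val_mk0] at h1
    have h2 := Z.conj g _ hg c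
    rw [Units.val_mk0] at h2
    rw [hkey _ (hxP _) _ (K.tor_P g _ hg _ (hxP a)) _ _ _ (hxl _) h1, ← h2, ← Cov.conj_comm]
    have h3 := K.cen _ (Cov.pi_comm_zh Z (hxl a) c) g
    rw [← h3, mul_inv_cancel_right]
  obtain ⟨c, hc⟩ := exists_coeff₂ hF (by omega) f hf1 hf2
  have hz : ∀ i j : Fin (2 * m + 1), c i j = 0 := by
    intro i j
    apply coeff₂_eq_zero_of_equivariant hF (by omega) c 1 (1 + 2 ^ (m + 1)) 0
    · intro μ x y hμ
      rw [← hc, ← hc, pow_one, pow_zero, one_mul]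
      exact hinv μ x y hμ
    · exact weights hm2 i.2 j.2
  obtain ⟨c0, hc0⟩ := hleft (xl 1) (hxP 1) 1 0 (hxl 1) one_ne_zero
  have h0 : f 1 c0 = 0 := by
    rw [hc]
    simp [hz]
  have h1 := Cov.io_eq_zero h0
  rw [hc0] at h1
  exact K.t_one h1

end Cfsg.Agent.OddHalf.D9.RankTwo.SzEight

end

-- merged: Cfsg.Agent.OddHalf.D9.RankTwo.Abel
section

/-!
# Finite abelian 2-groups

* a finite commutative 2-group with at most one involution is cyclic;
* the number of `x` with `x * x = 1` is the index of the subgroup of squares.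
-/

set_option autoImplicit false
set_option linter.unusedSectionVars false

namespace Cfsg.Agent.OddHalf.D9.RankTwo.Abel

variable {V : Type*} [CommGroup V] [Finite V]

theorem card_eq_ker_mul_range {X Y : Type*} [Group X] [Group Y] (f : X →* Y) :
    Nat.card X = Nat.card f.ker * Nat.card f.range := by
  rw [← Subgroup.index_ker, Subgroup.card_mul_index]

/-- `|V| = |Ω₁(V)| |V²|`. -/
theorem card_sq : Nat.card V = Nat.card (powMonoidHom (α := V) 2).ker * Nat.card (powMonoidHom (α := V) 2).range :=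
  card_eq_ker_mul_range _

theorem card_pow_ker (h : Nat.card (powMonoidHom (α := V) 2).ker ≤ 2) (k : ℕ) :
    Nat.card (powMonoidHom (α := V) (2 ^ k)).ker ≤ 2 ^ k := by
  induction k with
  | zero =>
    have : (powMonoidHom (α := V) (2 ^ 0)).ker = ⊥ := by
      rw [eq_bot_iff]
      intro x hx
      have h1 : x ^ (2 ^ 0) = 1 := hx
      rw [pow_zero, pow_one] at h1
      exact Subgroup.mem_bot.mpr h1
    rw [this]
    simp
  | succ k ih =>
    let f : (powMonoidHom (α := V) (2 ^ (k + 1))).ker →* V := (powMonoidHom 2).comp (Subgroup.subtype _)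
    have h1 := card_eq_ker_mul_range f
    have h2 : Nat.card f.ker ≤ Nat.card (powMonoidHom (α := V) 2).ker := by
      refine Nat.card_le_card_of_injective (fun x => ⟨x.1.1, x.2⟩) ?_
      intro x y hxy
      have h0 := congrArg (fun z : (powMonoidHom (α := V) 2).ker => (z : V)) hxy
      exact Subtype.ext (Subtype.ext h0)
    have h3 : f.range ≤ (powMonoidHom (α := V) (2 ^ k)).ker := by
      rintro _ ⟨⟨x, hx⟩, rfl⟩
      have h4 : x ^ (2 ^ (k + 1)) = 1 := hx
      show (x ^ 2) ^ (2 ^ k) = 1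
      rw [← pow_mul, ← pow_succ', h4]
    have h5 : Nat.card f.range ≤ Nat.card (powMonoidHom (α := V) (2 ^ k)).ker :=
      Nat.card_le_card_of_injective (Subgroup.inclusion h3) (Subgroup.inclusion_injective h3)
    calc Nat.card (powMonoidHom (α := V) (2 ^ (k + 1))).ker = Nat.card f.ker * Nat.card f.range := h1
      _ ≤ 2 * 2 ^ k := Nat.mul_le_mul (h2.trans h) (h5.trans ih)
      _ = 2 ^ (k + 1) := (pow_succ' 2 k).symm

/-- At most one involution: cyclic. -/
theorem isCyclic_of_card_le (hV : IsPGroup 2 V) (h : Nat.card (powMonoidHom (α := V) 2).ker ≤ 2) :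
    IsCyclic V := by
  classical
  have := Fintype.ofFinite V
  apply isCyclic_of_card_pow_eq_one_le
  intro n hn
  obtain ⟨k, m, hm, rfl⟩ := Nat.exists_eq_two_pow_mul_odd hn.ne'
  have h1 : ∀ x : V, x ^ (2 ^ k * m) = 1 → x ^ (2 ^ k) = 1 := by
    intro x hx
    obtain ⟨j, hj⟩ := hV x
    have h2 : orderOf (x ^ 2 ^ k) ∣ m := by
      apply orderOf_dvd_of_pow_eq_one
      rw [← pow_mul, hx]
    have h3 : orderOf (x ^ 2 ^ k) ∣ 2 ^ j := by
      apply orderOf_dvd_of_pow_eq_one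
      rw [← pow_mul, mul_comm, pow_mul, hj, one_pow]
    have h4 : Nat.Coprime m (2 ^ j) := Nat.Coprime.pow_right j (Nat.coprime_two_right.mpr hm)
    have h5 := Nat.Coprime.eq_one_of_dvd (Nat.Coprime.coprime_dvd_left h2 h4) h3
    exact orderOf_eq_one_iff.mp h5
  have h2 : (Finset.univ.filter fun x : V => x ^ (2 ^ k * m) = 1).card ≤
      Nat.card (powMonoidHom (α := V) (2 ^ k)).ker := by
    rw [Nat.card_eq_fintype_card, ← Finset.card_univ, ← Finset.card_image_of_injective (f := Subtype.val)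
      Finset.univ Subtype.val_injective]
    apply Finset.card_le_card
    intro x hx
    rw [Finset.mem_filter] at hx
    rw [Finset.mem_image]
    exact ⟨⟨x, h1 x hx.2⟩, Finset.mem_univ _, rfl⟩
  have h3 := card_pow_ker h k
  have h4 : 1 ≤ m := hm.pos
  calc _ ≤ _ := h2
    _ ≤ 2 ^ k := h3
    _ ≤ 2 ^ k * m := Nat.le_mul_of_pos_right _ h4

end Cfsg.Agent.OddHalf.D9.RankTwo.Abel

end

-- merged: Cfsg.Agent.OddHalf.D9.RankTwo.SzFour
section

/-!
# Covers of `Sz(q)` with noncyclic centre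

`A` perfect, `Z(A)` a noncyclic 2-group, `A / Z(A) ≅ Sz(q)`. Then `q = 8`, `|Ω₁(Z(A))| = 4`, and for two commuting
involutions `s₁ ≠ s₂` of `A / Z(A)` with representatives `k₁`, `k₂` some `x ∈ A` commutes with `k₁`,
and `⁅x, k₂⁆` is a nontrivial element of the centre.
-/

set_option autoImplicit false
set_option linter.unusedSectionVars false
set_option linter.style.haveILetI false

namespace Cfsg.Agent.OddHalf.D9.RankTwo.SzFour

open scoped commutatorElement
open Cfsg.Agent.StdSz Cfsg.Agent.StdSz.FormAlg Cfsg.Agent.StdSz.BorelCoord Cfsg.Agent.StdSz.CoverA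
open Cfsg.Agent.StdSz.CoverC Cfsg.Agent.GH.Cov.SzCover
open Cfsg.Agent.LieRecognition Cfsg.Agent Subgroup

/-- the centre is a commutative group -/
instance (priority := 100) centerComm (A : Type*) [Group A] : CommGroup (center A) :=
  { (center A).toGroup with mul_comm := fun a b => Subtype.ext (mem_center_iff.mp b.2 a) }

/-- A proper subgroup of the centre containing the squares lies in a subgroup of index 2. -/
theorem exists_avoid {A : Type*} [Group A] [Finite A] (Y : Subgroup A) (hY : Y ≤ center A)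
    (hsq : ∀ z ∈ center A, z * z ∈ Y) {w : A} (_hwc : w ∈ center A) (hw : w ∉ Y) :
    ∃ Z1 : Subgroup A, Y ≤ Z1 ∧ Z1 ≤ center A ∧ w ∉ Z1 ∧ ∀ z ∈ center A, z ∈ Z1 ∨ w⁻¹ * z ∈ Z1 := by
  classical
  let S : Set (Subgroup A) := {Z | Y ≤ Z ∧ Z ≤ center A ∧ w ∉ Z}
  have hS : Y ∈ S := ⟨le_rfl, hY, hw⟩
  obtain ⟨Z1, hZ1⟩ := (Set.toFinite S).exists_maximal ⟨_, hS⟩
  have h1 : Y ≤ Z1 := hZ1.prop.1
  have h2 : Z1 ≤ center A := hZ1.prop.2.1
  have h3 : w ∉ Z1 := hZ1.prop.2.2
  refine ⟨Z1, h1, h2, h3, ?_⟩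
  intro z hzc
  by_contra hcon
  push Not at hcon
  have hzz : z * z ∈ Z1 := h1 (hsq z hzc)
  have hcz := fun g => Subgroup.mem_center_iff.mp hzc g
  let Z2 : Subgroup A :=
    { carrier := {y | y ∈ Z1 ∨ z⁻¹ * y ∈ Z1}
      one_mem' := Or.inl (one_mem _)
      mul_mem' := by
        rintro x y (hx | hx) (hy | hy)
        · exact Or.inl (mul_mem hx hy)
        · right
          have : z⁻¹ * (x * y) = x * (z⁻¹ * y) := by
            have h5 : z⁻¹ * x = x * z⁻¹ := by
              rw [inv_mul_eq_iff_eq_mul, ← mul_assoc, ← hcz, mul_inv_cancel_right]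
            rw [← mul_assoc, h5, mul_assoc]
          rw [this]
          exact mul_mem hx hy
        · right
          rw [← mul_assoc]
          exact mul_mem hx hy
        · left
          have : x * y = (z * z) * ((z⁻¹ * x) * (z⁻¹ * y)) := by
            have h5 : z * (z⁻¹ * x) = (z⁻¹ * x) * z := (hcz _).symm
            calc x * y = z * (z⁻¹ * x) * y := by group
              _ = z * ((z⁻¹ * x) * z) * (z⁻¹ * y) := by group
              _ = z * (z * (z⁻¹ * x)) * (z⁻¹ * y) := by rw [h5]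
              _ = _ := by group
          rw [this]
          exact mul_mem hzz (mul_mem hx hy)
      inv_mem' := by
        rintro x (hx | hx)
        · exact Or.inl (inv_mem hx)
        · right
          have : z⁻¹ * x⁻¹ = (z * z)⁻¹ * (z⁻¹ * x)⁻¹ := by
            have h5 : x⁻¹ * z = z * x⁻¹ := hcz _
            rw [mul_inv_rev, mul_inv_rev, inv_inv, h5]
            group
          rw [this]
          exact mul_mem (inv_mem hzz) (inv_mem hx) }
  have hle : Z1 ≤ Z2 := fun y hy => Or.inl hy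
  have hz2 : z ∈ Z2 := Or.inr (by rw [inv_mul_cancel]; exact one_mem _)
  have hw2 : w ∈ Z2 := by
    by_contra hw2
    have h6 : Z2 ∈ S := by
      refine ⟨h1.trans hle, ?_, hw2⟩
      rintro y (hy | hy)
      · exact h2 hy
      · have : y = z * (z⁻¹ * y) := by group
        rw [this]
        exact mul_mem hzc (h2 hy)
    exact hcon.1 (hZ1.le_of_ge h6 hle hz2)
  rcases hw2 with h | h
  · exact h3 h
  · apply hcon.2
    have := inv_mem h
    rwa [mul_inv_rev, inv_inv] at this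

variable {A : Type*} [Group A] [Finite A] {F : Type*} [Field F] [Fintype F] {m : ℕ}
  {hF : Fintype.card F = 2 ^ (2 * m + 1)} {π : A →* ↥(Cfsg.Lie.Sz F (2 ^ (m + 1)))} {P : Subgroup A}

theorem center_le (B : Base hF π P) (h2 : IsPGroup 2 (center A)) : center A ≤ P := by
  intro z hz
  obtain ⟨k, hk⟩ := h2 ⟨z, hz⟩
  exact (B.mem z).mpr ⟨⟨0, 0, by rw [(B.ker z).mpr hz, (szData hF).p_zero]⟩, k, congrArg Subtype.val hk⟩

/-- Modulo a subgroup of index two of the centre. -/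
theorem exists_comm (B : Base hF π P) (hp : commutator A = ⊤) (hm : 1 ≤ m) (Z1 : Subgroup A)
    (hZ1 : Z1 ≤ center A) {w : A} (hwP : w ∈ P) (hwc : w ∈ center A) (hw1 : w ∉ Z1) (hww : w * w ∈ Z1)
    (hcov : ∀ z ∈ P, z ∈ center A → z ∈ Z1 ∨ w⁻¹ * z ∈ Z1) :
    m = 1 ∧ ∀ x ∈ P, ∀ a b, π x = (szData hF).p a b → a ≠ 0 →
      ∃ e ∈ P, ∃ c, π e = (szData hF).p 0 c ∧ ⁅x, e⁆ ∉ Z1 := by
  have : Z1.Normal := by
    constructor
    intro n hn g
    rw [Subgroup.mem_center_iff.mp (hZ1 hn) g, mul_inv_cancel_right]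
    exact hn
  let q := QuotientGroup.mk' Z1
  have hq : ∀ x, q x = 1 ↔ x ∈ Z1 := fun x => QuotientGroup.eq_one_iff x
  let π1 : A ⧸ Z1 →* ↥(Cfsg.Lie.Sz F (2 ^ (m + 1))) := QuotientGroup.lift Z1 π (by
    intro x hx
    exact (B.ker x).mpr (hZ1 hx))
  have hπ1 : ∀ x, π1 (q x) = π x := fun x => rfl
  have hC : Cov (szData hF) π1 (P.map q) (q w) :=
    { cen := by
        intro x hx y
        obtain ⟨x, rfl⟩ := QuotientGroup.mk'_surjective Z1 x
        obtain ⟨y, rfl⟩ := QuotientGroup.mk'_surjective Z1 y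
        rw [← map_mul, ← map_mul, B.cen x hx y]
      to_p := by
        rintro _ ⟨x, hx, rfl⟩
        exact ((B.mem x).mp hx).1
      from_p := by
        intro a b
        obtain ⟨x, hx, h⟩ := B.lift a b
        exact ⟨q x, ⟨x, hx, rfl⟩, h⟩
      tor := by
        intro l
        obtain ⟨g, hg⟩ := B.surj ((szData hF).h l)
        exact ⟨q g, hg⟩
      tor_P := by
        intro g l hg x hx
        obtain ⟨g, rfl⟩ := QuotientGroup.mk'_surjective Z1 g
        obtain ⟨x, hx, rfl⟩ := hx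
        exact ⟨g * x * g⁻¹, B.tor_P g l hg x hx, by simp [q]⟩
      t_mem := ⟨w, hwP, rfl⟩
      t_one := fun h => hw1 ((hq w).mp h)
      t_sq := by rw [← map_mul]; exact (hq _).mpr hww
      t_ker := by rw [hπ1]; exact (B.ker w).mpr hwc
      uniq := by
        rintro _ ⟨x, hx, rfl⟩ hx1 _
        have hxc : x ∈ Subgroup.center A := (B.ker x).mp hx1
        rcases hcov x hx hxc with h | h
        · left; exact (hq x).mpr h
        · right
          have h2 : q (w⁻¹ * x) = 1 := (hq _).mpr h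
          rw [map_mul, map_inv, inv_mul_eq_one] at h2
          exact h2.symm }
  have := EquivMaps.charP_two hF
  have hpq : commutator (A ⧸ Z1) = ⊤ := by
    have h1 := Subgroup.map_commutator (⊤ : Subgroup A) ⊤ q
    rw [← commutator_def, hp] at h1
    have h3 : (⊤ : Subgroup A).map q = ⊤ := by
      rw [← MonoidHom.range_eq_map, MonoidHom.range_eq_top]
      exact QuotientGroup.mk'_surjective Z1
    rw [h3] at h1
    rw [commutator_def, ← h1]
  have hodd : Odd (P.map q).index :=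
    Odd.of_dvd_nat B.odd (Subgroup.index_map_dvd P (QuotientGroup.mk'_surjective Z1))
  have hcom : (⟨q w, hC.t_mem⟩ : P.map q) ∈ commutator (P.map q) := by
    refine mem_commutator_of_central (P.map q) hodd (q w) hC.t_mem ?_ hC.t_sq ?_
    · intro g
      exact hC.cen _ hC.t_ker g
    · rw [hpq]; exact Subgroup.mem_top _
  refine ⟨SzEight.eight hC hm hF hcom, fun x hx a b hab ha => ?_⟩
  obtain ⟨zh, Z, -, hleft, -⟩ := hC.main hm hF hcom
  obtain ⟨c, hc⟩ := hleft (q x) ⟨x, hx, rfl⟩ a b hab ha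
  obtain ⟨e, he, hec⟩ := Z.mem c
  refine ⟨e, he, c, ?_, ?_⟩
  · have h1 := Z.pi c
    rw [← hec] at h1
    exact h1
  · intro h
    rw [← hec] at hc
    have h1 : q ⁅x, e⁆ = 1 := (hq _).mpr h
    rw [map_commutatorElement] at h1
    rw [h1] at hc
    exact hC.t_one hc.symm

/-- commutators with an element `x` of `P` on the preimage of `Z(T)` -/
def cm (B : Base hF π P) {x : A} (hx : x ∈ P) : B.Z0 →* center A where
  toFun e := ⟨⁅x, (e : A)⁆, by
    obtain ⟨a, b, hab⟩ := ((B.mem x).mp hx).1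
    obtain ⟨c, hc⟩ := e.2.2
    rw [← B.ker, map_commutatorElement, hab, hc, commutatorElement_eq_one_iff_mul_comm, (szData hF).comm_zero]⟩
  map_one' := Subtype.ext (commutatorElement_one_right x)
  map_mul' e e' := by
    apply Subtype.ext
    show ⁅x, (e : A) * e'⁆ = ⁅x, (e : A)⁆ * ⁅x, (e' : A)⁆
    have hc : ⁅x, (e' : A)⁆ ∈ center A := by
      obtain ⟨a, b, hab⟩ := ((B.mem x).mp hx).1
      obtain ⟨c, hc⟩ := e'.2.2
      rw [← B.ker, map_commutatorElement, hab, hc, commutatorElement_eq_one_iff_mul_comm,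
        (szData hF).comm_zero]
    have h1 : ⁅x, (e : A) * e'⁆ = ⁅x, (e : A)⁆ * ((e : A) * ⁅x, (e' : A)⁆ * (e : A)⁻¹) := by
      simp only [commutatorElement_def]; group
    rw [h1, mem_center_iff.mp hc, mul_inv_cancel_right]

theorem cm_apply (B : Base hF π P) {x : A} (hx : x ∈ P) (e : B.Z0) : ((cm B hx e : center A) : A) = ⁅x, (e : A)⁆ :=
  rfl

/-- `π` on the preimage of `Z(T)` -/
def pz (B : Base hF π P) : B.Z0 →* ↥(Cfsg.Lie.Sz F (2 ^ (m + 1))) := π.comp B.Z0.subtype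

theorem card_center_eq (B : Base hF π P) (H : Subgroup A) (hH : center A ≤ H) :
    Nat.card (π.comp H.subtype).ker = Nat.card (center A) := by
  refine Nat.card_congr ⟨fun x => ⟨x.1.1, (B.ker _).mp x.2⟩, fun x =>
    ⟨⟨x.1, hH x.2⟩, (B.ker _).mpr x.2⟩, fun x => rfl, fun x => rfl⟩

theorem card_Z0 (B : Base hF π P) (h2 : IsPGroup 2 (center A)) :
    Nat.card B.Z0 = Nat.card (center A) * 2 ^ (2 * m + 1) := by
  have hle : center A ≤ B.Z0 := fun z hz => ⟨center_le B h2 hz, 0, by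
    rw [(B.ker z).mpr hz, (szData hF).p_zero]⟩
  rw [Abel.card_eq_ker_mul_range (π.comp B.Z0.subtype), card_center_eq B _ hle]
  congr 1
  rw [← hF, ← Nat.card_eq_fintype_card]
  refine (Nat.card_congr (Equiv.ofBijective (fun b : F => (⟨(szData hF).p 0 b, ?_⟩ :
    (π.comp B.Z0.subtype).range)) ⟨?_, ?_⟩)).symm
  · obtain ⟨x, hx, hxb⟩ := B.lift 0 b
    exact ⟨⟨x, hx, b, hxb⟩, hxb⟩
  · intro b c hbc
    exact ((szData hF).p_inj _ _ _ _ (congrArg Subtype.val hbc)).2
  · rintro ⟨_, ⟨x, hx, b, hb⟩, rfl⟩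
    exact ⟨b, Subtype.ext hb.symm⟩

theorem card_P (B : Base hF π P) (h2 : IsPGroup 2 (center A)) :
    Nat.card P = Nat.card (center A) * (2 ^ (2 * m + 1) * 2 ^ (2 * m + 1)) := by
  rw [Abel.card_eq_ker_mul_range (π.comp P.subtype), card_center_eq B _ (center_le B h2)]
  congr 1
  rw [← hF, ← Nat.card_eq_fintype_card, ← Nat.card_prod]
  refine (Nat.card_congr (Equiv.ofBijective (fun b : F × F => (⟨(szData hF).p b.1 b.2, ?_⟩ :
    (π.comp P.subtype).range)) ⟨?_, ?_⟩)).symm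
  · obtain ⟨x, hx, hxb⟩ := B.lift b.1 b.2
    exact ⟨⟨x, hx⟩, hxb⟩
  · intro b c hbc
    have h1 := (szData hF).p_inj _ _ _ _ (congrArg Subtype.val hbc)
    exact Prod.ext h1.1 h1.2
  · rintro ⟨_, ⟨x, hx⟩, rfl⟩
    obtain ⟨a, b, hab⟩ := ((B.mem x).mp hx).1
    exact ⟨(a, b), Subtype.ext hab.symm⟩

/-- the elements of `Z(T)` commuting with `x` -/
def fx (B : Base hF π P) {x : A} (hx : x ∈ P) : Subgroup ↥(Cfsg.Lie.Sz F (2 ^ (m + 1))) :=
  (cm B hx).ker.map (pz B)

theorem card_fx (B : Base hF π P) (h2 : IsPGroup 2 (center A)) {x : A} (hx : x ∈ P) :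
    Nat.card (fx B hx) * Nat.card (cm B hx).range = 2 ^ (2 * m + 1) := by
  have h1 := Abel.card_eq_ker_mul_range (cm B hx)
  rw [card_Z0 B h2] at h1
  -- the kernel of `cm`
  let f : (cm B hx).ker →* ↥(Cfsg.Lie.Sz F (2 ^ (m + 1))) := (pz B).comp (cm B hx).ker.subtype
  have h3 := Abel.card_eq_ker_mul_range f
  have h4 : f.range = fx B hx := by
    ext y
    constructor
    · rintro ⟨e, rfl⟩
      exact ⟨e.1, e.2, rfl⟩
    · rintro ⟨e, he, rfl⟩
      exact ⟨⟨e, he⟩, rfl⟩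
  have h5 : Nat.card f.ker = Nat.card (center A) := by
    refine Nat.card_congr ⟨fun y => ⟨y.1.1.1, (B.ker _).mp y.2⟩, fun y =>
      ⟨⟨⟨y.1, center_le B h2 y.2, 0, by rw [(B.ker _).mpr y.2, (szData hF).p_zero]⟩, ?_⟩,
        (B.ker _).mpr y.2⟩, fun y => rfl, fun y => rfl⟩
    apply Subtype.ext
    show ⁅x, (y : A)⁆ = 1
    rw [commutatorElement_eq_one_iff_mul_comm]
    exact mem_center_iff.mp y.2 x
  rw [h4, h5] at h3
  rw [h3, mul_assoc] at h1
  have h6 : 0 < Nat.card (center A) := Nat.card_pos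
  exact (Nat.eq_of_mul_eq_mul_left h6 h1).symm

theorem sq_mem_range (B : Base hF π P) (hp : commutator A = ⊤) (h2 : IsPGroup 2 (center A)) (hm : 1 ≤ m)
    {x : A} (hx : x ∈ P) {a b : F} (hab : π x = (szData hF).p a b) (ha : a ≠ 0) :
    (cm B hx).range ⊔ (powMonoidHom (α := center A) 2).range = ⊤ := by
  by_contra hne
  set W := (cm B hx).range ⊔ (powMonoidHom (α := center A) 2).range with hW
  obtain ⟨w, hw⟩ : ∃ w : center A, w ∉ W := by
    by_contra hcon
    push Not at hcon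
    exact hne (eq_top_iff.mpr fun w _ => hcon w)
  have hmem : ∀ y : center A, (y : A) ∈ W.map (center A).subtype ↔ y ∈ W := by
    intro y
    constructor
    · rintro ⟨y', hy', h⟩
      rwa [← Subtype.ext (a1 := y') (a2 := y) h]
    · intro h
      exact ⟨y, h, rfl⟩
  obtain ⟨Z1, h1, h3, h4, h5⟩ := exists_avoid (W.map (center A).subtype) (map_subtype_le _)
    (w := (w : A)) (by
      intro z hz
      rw [show z * z = ((⟨z, hz⟩ * ⟨z, hz⟩ : center A) : A) from rfl, hmem]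
      apply mem_sup_right
      exact ⟨⟨z, hz⟩, pow_two _⟩) w.2 (by rwa [hmem])
  have hww : (w : A) * w ∈ Z1 := by
    apply h1
    rw [show (w : A) * w = ((w * w : center A) : A) from rfl, hmem]
    apply mem_sup_right
    exact ⟨w, pow_two _⟩
  obtain ⟨e, he, c, hc, hne⟩ := (exists_comm B hp hm Z1 h3 (center_le B h2 w.2) w.2 h4 hww
    fun z _ hz => h5 z hz).2 x hx a b hab ha
  apply hne
  apply h1
  rw [show ⁅x, e⁆ = ((cm B hx ⟨e, he, c, hc⟩ : center A) : A) from rfl, hmem]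
  apply mem_sup_left
  exact ⟨_, rfl⟩

theorem card_omega_le (B : Base hF π P) (hp : commutator A = ⊤) (h2 : IsPGroup 2 (center A)) (hm : 1 ≤ m)
    {x : A} (hx : x ∈ P) {a b : F} (hab : π x = (szData hF).p a b) (ha : a ≠ 0) :
    Nat.card (powMonoidHom (α := center A) 2).ker ≤ Nat.card (cm B hx).range := by
  have h1 := Abel.card_sq (V := center A)
  have h3 := sq_mem_range B hp h2 hm hx hab ha
  have h4 : Nat.card (center A) ≤ Nat.card (cm B hx).range * Nat.card (powMonoidHom (α := center A) 2).range := by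
    rw [← Nat.card_prod]
    refine Nat.card_le_card_of_surjective (fun y => (y.1 : center A) * y.2) ?_
    intro z
    have hz : z ∈ (cm B hx).range ⊔ (powMonoidHom (α := center A) 2).range := by
      rw [h3]; exact mem_top _
    obtain ⟨y, hy, s, hs, hys⟩ := Subgroup.mem_sup.mp hz
    exact ⟨(⟨y, hy⟩, ⟨s, hs⟩), hys⟩
  rw [h1] at h4
  have h5 : 0 < Nat.card (powMonoidHom (α := center A) 2).range := Nat.card_pos
  exact Nat.le_of_mul_le_mul_right h4 h5

theorem exists_lift_ne (B : Base hF π P) : ∃ x ∈ P, ∃ a b, π x = (szData hF).p a b ∧ a ≠ 0 := by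
  obtain ⟨x, hx, h⟩ := B.lift 1 0
  exact ⟨x, hx, 1, 0, h, one_ne_zero⟩

/-- `q = 8` as soon as the centre is nontrivial. -/
theorem eq_one (B : Base hF π P) (hp : commutator A = ⊤) (h2 : IsPGroup 2 (center A)) (hm : 1 ≤ m)
    (hc : center A ≠ ⊥) : m = 1 := by
  -- a non-square
  have hns : (powMonoidHom (α := center A) 2).range ≠ ⊤ := by
    intro htop
    have h1 := Abel.card_sq (V := center A)
    rw [htop, Subgroup.card_top] at h1
    have h3 : 0 < Nat.card (center A) := Nat.card_pos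
    have h4 : Nat.card (powMonoidHom (α := center A) 2).ker = 1 := by
      have : 1 * Nat.card (center A) = Nat.card (powMonoidHom (α := center A) 2).ker * Nat.card (center A) := by
        rw [one_mul]; exact h1
      exact (Nat.eq_of_mul_eq_mul_right h3 this).symm
    have h5 : Nat.card (center A) ≠ 1 := fun h => hc (Subgroup.card_eq_one.mp h)
    obtain ⟨n, hn⟩ := (IsPGroup.iff_card (p := 2)).mp h2
    have h6 : 2 ∣ Nat.card (center A) := by
      rcases n with _ | n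
      · rw [pow_zero] at hn; exact absurd hn h5
      · rw [hn]; exact dvd_pow_self 2 (Nat.succ_ne_zero n)
    haveI : Fact (Nat.Prime 2) := ⟨Nat.prime_two⟩
    obtain ⟨z, hz⟩ := exists_prime_orderOf_dvd_card' 2 h6
    have h7 : z ∈ (powMonoidHom (α := center A) 2).ker := by
      show z ^ 2 = 1
      rw [← hz, pow_orderOf_eq_one]
    have h8 : z = 1 := by
      have := Subgroup.card_eq_one.mp h4
      rw [this] at h7
      exact mem_bot.mp h7
    rw [h8, orderOf_one] at hz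
    omega
  obtain ⟨w, hw⟩ : ∃ w : center A, w ∉ (powMonoidHom (α := center A) 2).range := by
    by_contra hcon
    push Not at hcon
    exact hns (eq_top_iff.mpr fun w _ => hcon w)
  set W := (powMonoidHom (α := center A) 2).range with hW
  have hmem : ∀ y : center A, (y : A) ∈ W.map (center A).subtype ↔ y ∈ W := by
    intro y
    constructor
    · rintro ⟨y', hy', h⟩
      rwa [← Subtype.ext (a1 := y') (a2 := y) h]
    · intro h
      exact ⟨y, h, rfl⟩
  obtain ⟨Z1, h1, h3, h4, h5⟩ := exists_avoid (W.map (center A).subtype) (map_subtype_le _)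
    (w := (w : A)) (by
      intro z hz
      rw [show z * z = ((⟨z, hz⟩ * ⟨z, hz⟩ : center A) : A) from rfl, hmem]
      exact ⟨⟨z, hz⟩, pow_two _⟩) w.2 (by rwa [hmem])
  have hww : (w : A) * w ∈ Z1 := by
    apply h1
    rw [show (w : A) * w = ((w * w : center A) : A) from rfl, hmem]
    exact ⟨w, pow_two _⟩
  exact (exists_comm B hp hm Z1 h3 (center_le B h2 w.2) w.2 h4 hww fun z _ hz => h5 z hz).1

end Cfsg.Agent.OddHalf.D9.RankTwo.SzFour

end

-- merged: Cfsg.Agent.OddHalf.D9.RankTwo.SzGamma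
section

/-!
# Covers of `Sz(q)` with noncyclic centre: the end

`card_omega`: `|Ω₁(Z(A))| = 4`. `gamma`: the statement on two commuting involutions of `A / Z(A)`.
-/

set_option autoImplicit false
set_option linter.unusedSectionVars false
set_option linter.style.haveILetI false

namespace Cfsg.Agent.OddHalf.D9.RankTwo.SzGamma

open scoped commutatorElement
open Cfsg.Agent.StdSz Cfsg.Agent.StdSz.FormAlg Cfsg.Agent.StdSz.BorelCoord Cfsg.Agent.StdSz.CoverA
open Cfsg.Agent.StdSz.CoverC Cfsg.Agent.GH.Cov.SzCover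
open Cfsg.Agent.LieRecognition Cfsg.Agent Subgroup
open Cfsg.Agent.OddHalf.D9.RankTwo.SzFour

variable {A : Type*} [Group A] [Finite A] {F : Type*} [Field F] [Fintype F] {m : ℕ}
  {hF : Fintype.card F = 2 ^ (2 * m + 1)} {π : A →* ↥(Cfsg.Lie.Sz F (2 ^ (m + 1)))} {P : Subgroup A}

theorem ne_bot_of_nc (hnc : ¬ IsCyclic (center A)) : center A ≠ ⊥ := by
  intro h
  apply hnc
  rw [h]
  infer_instance

/-- `|Ω₁| > 2`. -/
theorem two_lt (h2 : IsPGroup 2 (center A)) (hnc : ¬ IsCyclic (center A)) :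
    2 < Nat.card (powMonoidHom (α := center A) 2).ker := by
  by_contra h
  exact hnc (Abel.isCyclic_of_card_le h2 (by omega))

theorem card_range_le_four (B : Base hF π P) (hp : commutator A = ⊤) (h2 : IsPGroup 2 (center A)) (hm : 1 ≤ m)
    (hnc : ¬ IsCyclic (center A)) {x : A} (hx : x ∈ P) {a b : F} (hab : π x = (szData hF).p a b)
    (ha : a ≠ 0) : Nat.card (cm B hx).range ≤ 4 := by
  obtain rfl := eq_one B hp h2 hm (ne_bot_of_nc hnc)
  have := EquivMaps.charP_two hF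
  have h1 := card_fx B h2 hx
  have h3 : 2 ≤ Nat.card (fx B hx) := by
    have hxx : x * x ∈ B.Z0 := ⟨mul_mem hx hx, _, by rw [map_mul, hab, (szData hF).p_sq]⟩
    have h4 : (szData hF).p 0 (a ^ (1 + 2 ^ (1 + 1))) ∈ fx B hx := by
      refine ⟨⟨x * x, hxx⟩, ?_, ?_⟩
      · apply Subtype.ext
        show ⁅x, x * x⁆ = 1
        rw [commutatorElement_eq_one_iff_mul_comm]
        group
      · show π (x * x) = _
        rw [map_mul, hab, (szData hF).p_sq]
    have h5 : (szData hF).p 0 (a ^ (1 + 2 ^ (1 + 1))) ≠ 1 := by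
      rw [← (szData hF).p_zero]
      intro h
      have := ((szData hF).p_inj _ _ _ _ h).2
      exact ha (pow_eq_zero_iff (by norm_num) |>.mp this)
    have : Nontrivial (fx B hx) := ⟨⟨⟨_, h4⟩, 1, fun h => h5 (congrArg Subtype.val h)⟩⟩
    exact Finite.one_lt_card
  have h4 : 2 ^ (2 * 1 + 1) = 8 := by norm_num
  rw [h4] at h1
  by_contra hcon
  have h5 : 5 ≤ Nat.card (cm B hx).range := by omega
  have := Nat.mul_le_mul h3 h5
  omega

/-- **`|Ω₁(Z(A))| = 4`.** -/
theorem card_omega (B : Base hF π P) (hp : commutator A = ⊤) (h2 : IsPGroup 2 (center A)) (hm : 1 ≤ m)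
    (hnc : ¬ IsCyclic (center A)) : Nat.card (powMonoidHom (α := center A) 2).ker = 4 := by
  obtain ⟨x, hx, a, b, hab, ha⟩ := exists_lift_ne B
  have h1 := card_omega_le B hp h2 hm hx hab ha
  have h3 := card_range_le_four B hp h2 hm hnc hx hab ha
  have h4 := two_lt h2 hnc
  have h5 : IsPGroup 2 (powMonoidHom (α := center A) 2).ker := h2.to_subgroup _
  have : Fact (Nat.Prime 2) := ⟨Nat.prime_two⟩
  obtain ⟨n, hn⟩ := IsPGroup.iff_card.mp h5
  rw [hn] at h1 h4 ⊢
  rcases n with _ | _ | _ | n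
  · norm_num at h4
  · norm_num at h4
  · norm_num
  · exfalso
    have h6 : 2 ^ 3 ≤ 2 ^ (n + 1 + 1 + 1) := Nat.pow_le_pow_right (by norm_num) (by omega)
    omega

/-- commutators with `k` -/
def cr (B : Base hF π P) {k : A} {b : F} (hk : π k = (szData hF).p 0 b) : P →* center A where
  toFun x := ⟨⁅(x : A), k⁆, by
    obtain ⟨a, c, hac⟩ := ((B.mem x).mp x.2).1
    rw [← B.ker, map_commutatorElement, hac, hk, commutatorElement_eq_one_iff_mul_comm, (szData hF).comm_zero]⟩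
  map_one' := Subtype.ext (commutatorElement_one_left k)
  map_mul' x y := by
    apply Subtype.ext
    show ⁅(x : A) * y, k⁆ = ⁅(x : A), k⁆ * ⁅(y : A), k⁆
    have hc : ⁅(y : A), k⁆ ∈ center A := by
      obtain ⟨a, c, hac⟩ := ((B.mem y).mp y.2).1
      rw [← B.ker, map_commutatorElement, hac, hk, commutatorElement_eq_one_iff_mul_comm,
        (szData hF).comm_zero]
    have h1 : ⁅(x : A) * y, k⁆ = ((x : A) * ⁅(y : A), k⁆ * (x : A)⁻¹) * ⁅(x : A), k⁆ := by
      simp only [commutatorElement_def]; group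
    rw [h1, mem_center_iff.mp hc, mul_inv_cancel_right]
    exact (mem_center_iff.mp hc _).symm

/-- Some element of `P` outside the preimage of `Z(T)` commutes with `k`. -/
theorem exists_fix (B : Base hF π P) (hp : commutator A = ⊤) (h2 : IsPGroup 2 (center A)) (hm : 1 ≤ m)
    (hnc : ¬ IsCyclic (center A)) {k : A} {b : F} (hk : π k = (szData hF).p 0 b) :
    ∃ x ∈ P, (∃ a c, π x = (szData hF).p a c ∧ a ≠ 0) ∧ x * k = k * x := by
  by_contra hcon
  push Not at hcon
  have hO := card_omega B hp h2 hm hnc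
  obtain rfl := eq_one B hp h2 hm (ne_bot_of_nc hnc)
  have := EquivMaps.charP_two hF
  have hkk : k * k ∈ center A := by
    have hbb : b + b = 0 := CharTwo.add_self_eq_zero b
    rw [← B.ker, map_mul, hk, (szData hF).p_zero_mul, hbb, (szData hF).p_zero]
  have h1 := Abel.card_eq_ker_mul_range (cr B hk)
  have h3 : Nat.card (cr B hk).range ≤ 4 := by
    rw [← hO]
    apply Nat.card_le_card_of_injective (Subgroup.inclusion (?_ : (cr B hk).range ≤ _))
      (Subgroup.inclusion_injective _)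
    rintro _ ⟨x, rfl⟩
    show cr B hk x ^ 2 = 1
    apply Subtype.ext
    show ⁅(x : A), k⁆ ^ 2 = 1
    have hc : ⁅(x : A), k⁆ ∈ center A := (cr B hk x).2
    have h4 : ⁅(x : A), k * k⁆ = ⁅(x : A), k⁆ * (k * ⁅(x : A), k⁆ * k⁻¹) := by
      simp only [commutatorElement_def]; group
    rw [mem_center_iff.mp hc, mul_inv_cancel_right] at h4
    rw [pow_two, ← h4, commutatorElement_eq_one_iff_mul_comm]
    exact mem_center_iff.mp hkk _
  have h4 : Nat.card (cr B hk).ker ≤ Nat.card B.Z0 := by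
    have hmem : ∀ x : (cr B hk).ker, ((x : P) : A) ∈ B.Z0 := by
      intro x
      obtain ⟨a, c, hac⟩ := ((B.mem (x : P)).mp (x : P).2).1
      have h5 : ⁅((x : P) : A), k⁆ = 1 := congrArg Subtype.val x.2
      rw [commutatorElement_eq_one_iff_mul_comm] at h5
      by_cases ha : a = 0
      · subst ha
        exact ⟨(x : P).2, c, hac⟩
      · exact absurd h5 (hcon _ (x : P).2 ⟨a, c, hac, ha⟩)
    refine Nat.card_le_card_of_injective (fun x => (⟨_, hmem x⟩ : B.Z0)) ?_
    intro x y hxy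
    have h6 := congrArg (fun z : B.Z0 => (z : A)) hxy
    exact Subtype.ext (Subtype.ext h6)
  rw [card_P B h2] at h1
  rw [card_Z0 B h2] at h4
  have h5 : 0 < Nat.card (center A) := Nat.card_pos
  have h6 : Nat.card (center A) * (2 ^ (2 * 1 + 1) * 2 ^ (2 * 1 + 1)) ≤
      (Nat.card (center A) * 2 ^ (2 * 1 + 1)) * 4 := by
    rw [h1]; exact Nat.mul_le_mul h4 h3
  have h7 : 2 ^ (2 * 1 + 1) = 8 := by norm_num
  rw [h7] at h6
  omega

/-- The statement in standard position. -/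
theorem gamma_std (B : Base hF π P) (hp : commutator A = ⊤) (h2 : IsPGroup 2 (center A)) (hm : 1 ≤ m)
    (hnc : ¬ IsCyclic (center A)) {k1 k2 : A} {b1 b2 : F} (hk1 : π k1 = (szData hF).p 0 b1)
    (hk2 : π k2 = (szData hF).p 0 b2) (hP1 : k1 ∈ P) (hP2 : k2 ∈ P) (hb1 : b1 ≠ 0) (hb2 : b2 ≠ 0)
    (hb : b1 ≠ b2) : ∃ x, x * k1 = k1 * x ∧ ⁅x, k2⁆ ∈ center A ∧ ⁅x, k2⁆ ≠ 1 := by
  obtain ⟨x, hx, ⟨a, b, hab, ha⟩, hxk⟩ := exists_fix B hp h2 hm hnc hk1
  refine ⟨x, hxk, ?_, ?_⟩
  · rw [← B.ker, map_commutatorElement, hab, hk2, commutatorElement_eq_one_iff_mul_comm, (szData hF).comm_zero]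
  intro hcon
  rw [commutatorElement_eq_one_iff_mul_comm] at hcon
  have h1 := card_omega_le B hp h2 hm hx hab ha
  rw [card_omega B hp h2 hm hnc] at h1
  have h3 := card_fx B h2 hx
  obtain rfl := eq_one B hp h2 hm (ne_bot_of_nc hnc)
  have := EquivMaps.charP_two hF
  -- three elements of `fx`
  have hf : ∀ k ∈ P, ∀ c, π k = (szData hF).p 0 c → x * k = k * x → (szData hF).p 0 c ∈ fx B hx := by
    intro k hk c hkc hc
    refine ⟨⟨k, hk, c, hkc⟩, ?_, hkc⟩
    apply Subtype.ext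
    show ⁅x, k⁆ = 1
    rw [commutatorElement_eq_one_iff_mul_comm]
    exact hc
  have hf1 := hf k1 hP1 b1 hk1 hxk
  have hf2 := hf k2 hP2 b2 hk2 hcon
  have h4 : 2 < Nat.card (fx B hx) := by
    classical
    have := Fintype.ofFinite (fx B hx)
    have hinj : ∀ c d, (szData hF).p 0 c = (szData hF).p 0 d → c = d := fun c d h =>
      ((szData hF).p_inj _ _ _ _ h).2
    let S : Finset (fx B hx) := {1, ⟨_, hf1⟩, ⟨_, hf2⟩}
    have hcard : S.card = 3 := by
      have h0 : ∀ c, c ≠ 0 → ∀ h : (szData hF).p 0 c ∈ fx B hx, (1 : fx B hx) ≠ ⟨_, h⟩ := by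
        intro c hc h h'
        have h5 : (1 : ↥(Cfsg.Lie.Sz F (2 ^ (1 + 1)))) = (szData hF).p 0 c := congrArg Subtype.val h'
        rw [← (szData hF).p_zero] at h5
        exact hc (hinj _ _ h5).symm
      simp only [S]
      rw [Finset.card_insert_of_notMem, Finset.card_insert_of_notMem, Finset.card_singleton]
      · simp only [Finset.mem_singleton]
        intro h
        exact hb (hinj _ _ (congrArg Subtype.val h))
      · simp only [Finset.mem_insert, Finset.mem_singleton, not_or]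
        exact ⟨h0 _ hb1 _, h0 _ hb2 _⟩
    have h6 := Finset.card_le_univ S
    rw [hcard] at h6
    rw [Nat.card_eq_fintype_card]
    omega
  have h5 : 2 ^ (2 * 1 + 1) = 8 := by norm_num
  rw [h5] at h3
  have := Nat.mul_le_mul h4 h1
  omega

/-- **The statement on two commuting involutions of `A / Z(A)`.** -/
theorem gamma (hp : commutator A = ⊤) (h2 : IsPGroup 2 (center A)) (hnc : ¬ IsCyclic (center A))
    (hm : 1 ≤ m) (hF : Fintype.card F = 2 ^ (2 * m + 1))
    (e : A ⧸ center A ≃* ↥(Cfsg.Lie.Sz F (2 ^ (m + 1)))) {k1 k2 : A} (h1 : k1 * k1 ∈ center A)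
    (h2' : k2 * k2 ∈ center A) (h12 : ⁅k1, k2⁆ ∈ center A) (n1 : k1 ∉ center A) (n2 : k2 ∉ center A)
    (n12 : k1 * k2 ∉ center A) : ∃ x, x * k1 = k1 * x ∧ ⁅x, k2⁆ ∈ center A ∧ ⁅x, k2⁆ ≠ 1 := by
  classical
  have : Fact (Nat.Prime 2) := ⟨Nat.prime_two⟩
  have := EquivMaps.charP_two hF
  obtain ⟨π, P, B⟩ := exists_base hm hF e
  -- a conjugate of `⟨k1, k2⟩` in `P`
  have hs1 : π k1 * π k1 = 1 := by rw [← map_mul]; exact (B.ker _).mpr h1
  have hs2 : π k2 * π k2 = 1 := by rw [← map_mul]; exact (B.ker _).mpr h2'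
  have hs12 : π k1 * π k2 = π k2 * π k1 := by
    rw [← commutatorElement_eq_one_iff_mul_comm, ← map_commutatorElement]
    exact (B.ker _).mpr h12
  let R0 : ThreePrime.SzRel.Rel ↥(Cfsg.Lie.Sz F (2 ^ (m + 1))) F :=
    ThreePrime.SzRel.ofGood (SzMatrix.good hF)
  have hT0 : ∀ x, x ∈ R0.T ↔ ∃ a b, x = (szData hF).p a b := by
    intro x
    constructor
    · rintro ⟨a, b, rfl⟩
      refine ⟨a, b + a * SzMatrix.theta hF a, ?_⟩
      show (SzMatrix.good hF).u a b = (SzMatrix.good hF).u a _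
      rw [add_assoc, CharTwo.add_self_eq_zero, add_zero]
    · rintro ⟨a, b, rfl⟩
      exact ⟨a, b + a * SzMatrix.theta hF a, rfl⟩
  obtain ⟨Sy, hSy⟩ := R0.exists_sylow_eq hm hF
  have hz : ∀ s : ↥(Cfsg.Lie.Sz F (2 ^ (m + 1))), s * s = 1 → IsPGroup 2 (zpowers s) := by
    intro s hs
    apply IsPGroup.of_card (n := if s = 1 then 0 else 1)
    rw [Nat.card_zpowers]
    split_ifs with h
    · rw [h, orderOf_one, pow_zero]
    · rw [pow_one]
      exact orderOf_eq_prime (by rw [pow_two, hs]) h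
  have hle : zpowers (π k2) ≤ normalizer (zpowers (π k1) : Set _) := by
    rw [zpowers_le, mem_normalizer_iff]
    intro y
    have hcomm : ∀ y ∈ zpowers (π k1), π k2 * y = y * π k2 := by
      rintro _ ⟨n, rfl⟩
      exact (Commute.zpow_right (show Commute (π k2) (π k1) from hs12.symm) n)
    constructor
    · intro hy
      rw [hcomm y hy, mul_inv_cancel_right]
      exact hy
    · intro hy
      have h3 := hcomm _ hy
      have h4 : y = π k2 * y * (π k2)⁻¹ := by
        have h5 : π k2 * (π k2 * y * (π k2)⁻¹) = π k2 * y := by rw [h3]; group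
        exact (mul_left_cancel h5).symm
      rw [h4]; exact hy
  obtain ⟨Q, hQ⟩ := ((hz _ hs2).to_sup_of_normal_right' (hz _ hs1) hle).exists_le_sylow
  obtain ⟨g, hg⟩ := MulAction.exists_smul_eq (↥(Cfsg.Lie.Sz F (2 ^ (m + 1)))) Q Sy
  have hconj : ∀ y ∈ (Q : Subgroup _), ∃ a b, g * y * g⁻¹ = (szData hF).p a b := by
    intro y hy
    rw [← hT0, ← hSy, ← hg]
    exact ⟨y, hy, rfl⟩
  obtain ⟨y, hy⟩ := B.surj g
  have hp1 : ∀ k : A, k * k ∈ center A → π k ∈ (Q : Subgroup _) → y * k * y⁻¹ ∈ P ∧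
      ∃ b, π (y * k * y⁻¹) = (szData hF).p 0 b := by
    intro k hk hkQ
    obtain ⟨a, b, hab⟩ := hconj _ hkQ
    have h3 : π (y * k * y⁻¹) = (szData hF).p a b := by
      rw [map_mul, map_mul, map_inv, hy, hab]
    have h4 : y * k * y⁻¹ * (y * k * y⁻¹) ∈ center A := by
      have h5 : y * k * y⁻¹ * (y * k * y⁻¹) = y * (k * k) * y⁻¹ := by group
      rw [h5, mem_center_iff.mp hk y, mul_inv_cancel_right]
      exact hk
    have ha : a = 0 := by
      have h5 : π (y * k * y⁻¹ * (y * k * y⁻¹)) = 1 := (B.ker _).mpr h4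
      rw [map_mul, h3, (szData hF).p_sq, ← (szData hF).p_zero] at h5
      exact pow_eq_zero_iff (by positivity) |>.mp ((szData hF).p_inj _ _ _ _ h5).2
    subst ha
    refine ⟨(B.mem _).mpr ⟨⟨0, b, h3⟩, ?_⟩, b, h3⟩
    obtain ⟨n, hn⟩ := h2 ⟨_, h4⟩
    refine ⟨n + 1, ?_⟩
    rw [_root_.pow_succ', pow_mul, pow_two]
    exact congrArg Subtype.val hn
  obtain ⟨hP1, b1, hb1⟩ := hp1 k1 h1 (hQ (mem_sup_right (mem_zpowers _)))
  obtain ⟨hP2, b2, hb2⟩ := hp1 k2 h2' (hQ (mem_sup_left (mem_zpowers _)))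
  have hback : ∀ k : A, y * k * y⁻¹ ∈ center A → k ∈ center A := by
    intro k hk
    have h3 : k = y⁻¹ * (y * k * y⁻¹) * y := by group
    rw [h3]
    have h4 := mem_center_iff.mp hk y⁻¹
    rw [h4, inv_mul_cancel_right]
    exact hk
  have hb1' : b1 ≠ 0 := by
    rintro rfl
    exact n1 (hback _ ((B.ker _).mp (by rw [hb1, (szData hF).p_zero])))
  have hb2' : b2 ≠ 0 := by
    rintro rfl
    exact n2 (hback _ ((B.ker _).mp (by rw [hb2, (szData hF).p_zero])))
  have hb12 : b1 ≠ b2 := by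
    rintro rfl
    apply n12
    apply hback
    apply (B.ker _).mp
    have h3 : y * (k1 * k2) * y⁻¹ = (y * k1 * y⁻¹) * (y * k2 * y⁻¹) := by group
    rw [h3, map_mul, hb1, hb2, (szData hF).p_zero_mul, CharTwo.add_self_eq_zero, (szData hF).p_zero]
  obtain ⟨x, hx1, hx2, hx3⟩ := gamma_std B hp h2 hm hnc hb1 hb2 hP1 hP2 hb1' hb2' hb12
  refine ⟨y⁻¹ * x * y, ?_, ?_, ?_⟩
  · have h3 : x * (y * k1 * y⁻¹) = y * k1 * y⁻¹ * x := hx1
    calc y⁻¹ * x * y * k1 = y⁻¹ * (x * (y * k1 * y⁻¹)) * y := by group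
      _ = y⁻¹ * (y * k1 * y⁻¹ * x) * y := by rw [h3]
      _ = k1 * (y⁻¹ * x * y) := by group
  · apply hback
    have h3 : y * ⁅y⁻¹ * x * y, k2⁆ * y⁻¹ = ⁅x, y * k2 * y⁻¹⁆ := by
      simp only [commutatorElement_def]; group
    rw [h3]; exact hx2
  · intro h
    apply hx3
    have h3 : y * ⁅y⁻¹ * x * y, k2⁆ * y⁻¹ = ⁅x, y * k2 * y⁻¹⁆ := by
      simp only [commutatorElement_def]; group
    rw [← h3, h]
    group

end Cfsg.Agent.OddHalf.D9.RankTwo.SzGamma

end

-- merged: Cfsg.Agent.OddHalf.D9.RankTwo.StdFalse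
section

/-!
# Standard subgroups with centre of rank two in a counterexample

`std_false`: LEMMA W with the theorem on weakly closed TI subgroups, for `Z = Ω₁(Z(K))` of order four.
-/

set_option autoImplicit false

namespace Cfsg.Agent.OddHalf.D9.RankTwo.StdFalse

open Subgroup Cfsg
open scoped commutatorElement
open Cfsg.Agent.OddHalf.Iface
open Cfsg.Agent.OddHalf.D9.LemmaW
open Cfsg.Agent.OddHalf.D9.RankTwo.Core

universe u

/-- `Ω₁(Z(K))` as a subgroup of `G`. -/
def omg {G : Type*} [Group G] (K : Subgroup G) : Subgroup G where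
  carrier := {x | x ∈ K ∧ (∀ k ∈ K, k * x = x * k) ∧ x * x = 1}
  one_mem' := ⟨K.one_mem, fun k _ => by group, by group⟩
  mul_mem' := by
    rintro x y ⟨hx, hx1, hx2⟩ ⟨hy, hy1, hy2⟩
    refine ⟨K.mul_mem hx hy, fun k hk => ?_, ?_⟩
    · rw [← mul_assoc, hx1 k hk, mul_assoc, hy1 k hk, mul_assoc]
    · calc x * y * (x * y) = x * (y * x) * y := by group
        _ = x * (x * y) * y := by rw [hx1 y hy]
        _ = (x * x) * (y * y) := by group
        _ = 1 := by rw [hx2, hy2, one_mul]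
  inv_mem' := by
    rintro x ⟨hx, hx1, hx2⟩
    refine ⟨K.inv_mem hx, fun k hk => ?_, ?_⟩
    · calc k * x⁻¹ = x⁻¹ * (x * k) * x⁻¹ := by group
        _ = x⁻¹ * (k * x) * x⁻¹ := by rw [hx1 k hk]
        _ = x⁻¹ * k := by group
    · rw [← mul_inv_rev, hx2, inv_one]

/-- no four-group `U` of automorphisms of `K` centralizing `Ω₁(Z(K))` with `C_K(u) ≤ N(U)` for `u ∈ U#` -/
def GammaFor {G : Type*} [Group G] (K : Subgroup G) : Prop :=
  ∀ U : Subgroup G, (∀ u ∈ U, u * u = 1) → Nat.card U = 4 →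
    U ≤ Subgroup.normalizer (K : Set G) → U ⊓ Subgroup.centralizer (K : Set G) = ⊥ →
    (∀ u ∈ U, ∀ z ∈ omg K, u * z = z * u) →
    (∀ u ∈ U, u ≠ 1 → ∀ k ∈ K, k * u = u * k → k ∈ Subgroup.normalizer (U : Set G)) → False

/-- LEMMA W: the TI subgroup theorem for `G` is used only in the form `hTI`. -/
theorem standard_false {G : Type u} [Group G] [Finite G]
    (hTI : ∀ A : Subgroup G, IsElementaryAbelian 2 A → A ≠ ⊥ →
      (∀ a ∈ A, a ≠ 1 → ∀ g : G, A.map (MulAut.conj g).toMonoidHom ≤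
        Subgroup.centralizer ({a} : Set G) → A.map (MulAut.conj g).toMonoidHom = A) → False)
    {K Z : Subgroup G} (hK : Cfsg.IsStandardSubgroup K)
    (hZc : Z ≤ Subgroup.centralizer (K : Set G))
    (hZn : Subgroup.normalizer (K : Set G) ≤ Subgroup.normalizer (Z : Set G))
    (hel : ∀ x ∈ Z, x * x = 1) (hcard : Nat.card Z = 4)
    (hGamma : ∀ U : Subgroup G, (∀ u ∈ U, u * u = 1) → Nat.card U = 4 →
      U ≤ Subgroup.normalizer (K : Set G) → U ⊓ Subgroup.centralizer (K : Set G) = ⊥ →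
      (∀ u ∈ U, ∀ z ∈ Z, u * z = z * u) →
      (∀ u ∈ U, u ≠ 1 → ∀ k ∈ K, k * u = u * k → k ∈ Subgroup.normalizer (U : Set G)) → False) :
    False := by
  have hF := four_of_standard hK hZc hZn hel hcard
  apply hTI Z
  · refine ⟨⟨⟨fun a b => ?_⟩⟩, fun a ha => by rw [pow_two]; exact hF.el a ha⟩
    ext
    have ha := hF.el a a.2
    have hb := hF.el b b.2
    have hab := hF.el (a * b) (Z.mul_mem a.2 b.2)
    show (a : G) * b = b * a
    have hai : (a : G)⁻¹ = a := inv_eq_of_mul_eq_one_left ha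
    have hbi : (b : G)⁻¹ = b := inv_eq_of_mul_eq_one_left hb
    have habi : ((a : G) * b)⁻¹ = a * b := inv_eq_of_mul_eq_one_left hab
    calc (a : G) * b = ((a : G) * b)⁻¹ := habi.symm
      _ = (b : G)⁻¹ * (a : G)⁻¹ := mul_inv_rev _ _
      _ = b * a := by rw [hai, hbi]
  · rintro rfl
    simp at hcard
  intro a ha ha1 g hg
  by_contra hne
  obtain ⟨hZU, hcomm⟩ := hF.alt ha ha1 hg hne
  have hU := hF.conj g
  have hord : orderOf a = 2 := orderOf_eq_prime (by rw [pow_two]; exact hel a ha) ha1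
  have hUN : Z.map (MulAut.conj g).toMonoidHom ≤ Subgroup.normalizer (K : Set G) := by
    intro u hu
    apply (Cfsg.Agent.S1754.result K hK a hord (hZc ha)).1
    rw [Subgroup.mem_centralizer_singleton_iff]
    exact hcomm u hu a ha
  refine hGamma _ hU.el hU.card hUN ?_ hcomm ?_
  · rw [eq_bot_iff]
    rintro u ⟨hu1, hu2⟩
    rw [Subgroup.mem_bot]
    by_contra hne
    obtain ⟨z, hz, hzu⟩ := mem_conj.mp hu1
    -- `u ∈ C(K) ∩ C(K)^g` has even order, so `g` normalises `K`, `Z`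
    have hg : g ∈ Subgroup.normalizer (Subgroup.centralizer (K : Set G) : Set G) := by
      by_contra hg
      have hodd := hK.2.1.2 g hg
      have hmem : u ∈ Subgroup.centralizer (K : Set G) ⊓
          (Subgroup.centralizer (K : Set G)).map (MulAut.conj g).toMonoidHom :=
        ⟨hu2, mem_conj.mpr ⟨z, hZc hz, hzu⟩⟩
      have hou : orderOf u = 2 :=
        orderOf_eq_prime (by rw [pow_two]; exact hU.el u hu1) hne
      have hdvd : 2 ∣ Nat.card ↥(Subgroup.centralizer (K : Set G) ⊓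
          (Subgroup.centralizer (K : Set G)).map (MulAut.conj g).toMonoidHom) := by
        rw [← hou]
        exact Subgroup.orderOf_dvd_natCard _ hmem
      exact (Nat.not_even_iff_odd.mpr hodd) (even_iff_two_dvd.mpr hdvd)
    rw [← hK.2.2.2] at hg
    have hZZ := conj_eq_of_mem_normalizer (hZn hg)
    rw [hZZ] at hZU hu1
    have : u ∈ (⊥ : Subgroup G) := by
      rw [← hZU]
      exact ⟨hu1, hu1⟩
    exact hne (Subgroup.mem_bot.mp this)
  · intro u hu hu1 k _ hku
    apply hU.cent u hu hu1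
    rw [Subgroup.mem_centralizer_singleton_iff]
    exact hku

theorem omg_conj {G : Type*} [Group G] {K : Subgroup G} {n x : G} (hn : n ∈ normalizer (K : Set G))
    (hx : x ∈ omg K) : n * x * n⁻¹ ∈ omg K := by
  obtain ⟨h1, h2, h3⟩ := hx
  refine ⟨(mem_normalizer_iff.mp hn x).mp h1, fun k hk => ?_, ?_⟩
  · have hk' : n⁻¹ * k * n ∈ K := by
      have := (mem_normalizer_iff.mp (inv_mem hn) k).mp hk
      rwa [inv_inv] at this
    have h4 := h2 _ hk'
    calc k * (n * x * n⁻¹) = n * ((n⁻¹ * k * n) * x) * n⁻¹ := by group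
      _ = n * (x * (n⁻¹ * k * n)) * n⁻¹ := by rw [h4]
      _ = n * x * n⁻¹ * k := by group
  · calc n * x * n⁻¹ * (n * x * n⁻¹) = n * (x * x) * n⁻¹ := by group
      _ = 1 := by rw [h3]; group

theorem normalizer_le {G : Type*} [Group G] (K : Subgroup G) :
    normalizer (K : Set G) ≤ normalizer (omg K : Set G) := by
  intro n hn
  rw [mem_normalizer_iff]
  intro x
  constructor
  · exact fun hx => omg_conj hn hx
  · intro hx
    have := omg_conj (inv_mem hn) hx
    have e1 : n⁻¹ * (n * x * n⁻¹) * n⁻¹⁻¹ = x := by group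
    rwa [e1] at this

/-- **A standard subgroup `K` with `|Ω₁(Z(K))| = 4` and (GAMMA) is impossible in a counterexample.** -/
theorem std_false {G : Type u} [Group G] (T : MainTI.{u}) (R : Rows) (C : Ctx G) {K : Subgroup G}
    (hK : IsStandardSubgroup K) (hcard : Nat.card (omg K) = 4) (hGamma : GammaFor K) : False := by
  have := C.fin
  refine standard_false (fun A hA hA1 hwc => not_weaklyClosed T R C A hA hA1 hwc) hK (Z := omg K) ?_
    (normalizer_le K) (fun x hx => hx.2.2) hcard hGamma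
  intro x hx
  rw [mem_centralizer_iff]
  exact fun k hk => hx.2.1 k hk

/-! ### Comparison with the centre of `K` -/

theorem mem_omg_iff {G : Type*} [Group G] {K : Subgroup G} {x : G} :
    x ∈ omg K ↔ ∃ h : x ∈ K, (⟨x, h⟩ : K) ∈ center ↥K ∧ x * x = 1 := by
  constructor
  · rintro ⟨h1, h2, h3⟩
    exact ⟨h1, mem_center_iff.mpr fun k => Subtype.ext (h2 k k.2), h3⟩
  · rintro ⟨h1, h2, h3⟩
    exact ⟨h1, fun k hk => congrArg Subtype.val (mem_center_iff.mp h2 ⟨k, hk⟩), h3⟩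

/-- `|Ω₁(Z(K))|` computed in `K`. -/
theorem card_omg {G : Type*} [Group G] (K : Subgroup G) :
    Nat.card (omg K) = Nat.card {z : center ↥K // z * z = 1} := by
  refine Nat.card_congr ⟨fun x => ⟨⟨⟨x, (mem_omg_iff.mp x.2).1⟩, (mem_omg_iff.mp x.2).2.1⟩, ?_⟩,
    fun z => ⟨((z : center ↥K) : K), mem_omg_iff.mpr ⟨((z : center ↥K) : K).2, (z : center ↥K).2, ?_⟩⟩,
    fun x => rfl, fun x => rfl⟩
  · exact Subtype.ext (Subtype.ext (mem_omg_iff.mp x.2).2.2)
  · exact congrArg (fun y : center ↥K => ((y : K) : G)) z.2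

/-- A four-group `U` of inner automorphisms: the data on two generators. -/
theorem gamma_of_inner {G : Type*} [Group G] [Finite G] {K : Subgroup G}
    (hin : ∀ u ∈ normalizer (K : Set G), u * u = 1 → (∀ z ∈ omg K, u * z = z * u) →
      ∃ k ∈ K, ∃ c ∈ centralizer (K : Set G), u = k * c)
    (hG : ∀ k1 k2 : K, k1 * k1 ∈ center ↥K → k2 * k2 ∈ center ↥K → ⁅k1, k2⁆ ∈ center ↥K →
      k1 ∉ center ↥K → k2 ∉ center ↥K → k1 * k2 ∉ center ↥K →
      ∃ x : K, x * k1 = k1 * x ∧ ⁅x, k2⁆ ∈ center ↥K ∧ ⁅x, k2⁆ ≠ 1) : GammaFor K := by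
  intro U hel hcard hUN hUC hUZ hUk
  have hfour : ∀ a : G, ∃ y ∈ U, y ≠ 1 ∧ y ≠ a := by
    intro a
    by_contra hcon
    push Not at hcon
    have hsub : (U : Set G) ⊆ ({1, a} : Set G) := by
      intro y hy
      by_cases h1 : y = 1
      · simp [h1]
      · simp [hcon y hy h1]
    have hle : (U : Set G).ncard ≤ ({1, a} : Set G).ncard :=
      Set.ncard_le_ncard hsub (Set.toFinite _)
    have h2 : ({1, a} : Set G).ncard ≤ 2 := Set.ncard_insert_le _ _ |>.trans (by simp)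
    have h3 : (U : Set G).ncard = 4 := by rw [← hcard]; rfl
    omega
  obtain ⟨u, hu, hu1, -⟩ := hfour 1
  obtain ⟨v, hv, hv1, hvu⟩ := hfour u
  obtain ⟨k, hk, c, hc, huk⟩ := hin u (hUN hu) (hel u hu) (hUZ u hu)
  obtain ⟨l, hl, d, hd, hvl⟩ := hin v (hUN hv) (hel v hv) (hUZ v hv)
  have hcK : ∀ x ∈ K, c * x = x * c := fun x hx => (mem_centralizer_iff.1 hc x hx).symm
  have hdK : ∀ x ∈ K, d * x = x * d := fun x hx => (mem_centralizer_iff.1 hd x hx).symm
  -- conjugation by `u`, `v` on `K`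
  have huc : ∀ x ∈ K, u * x * u⁻¹ = k * x * k⁻¹ := by
    intro x hx
    rw [huk]
    calc k * c * x * (k * c)⁻¹ = k * (c * x) * c⁻¹ * k⁻¹ := by group
      _ = k * (x * c) * c⁻¹ * k⁻¹ := by rw [hcK x hx]
      _ = k * x * k⁻¹ := by group
  have hvc : ∀ x ∈ K, v * x * v⁻¹ = l * x * l⁻¹ := by
    intro x hx
    rw [hvl]
    calc l * d * x * (l * d)⁻¹ = l * (d * x) * d⁻¹ * l⁻¹ := by group
      _ = l * (x * d) * d⁻¹ * l⁻¹ := by rw [hdK x hx]
      _ = l * x * l⁻¹ := by group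
  have hcen : ∀ y : K, (∀ x ∈ K, (y : G) * x * (y : G)⁻¹ = x) → y ∈ center ↥K := by
    intro y hy
    rw [mem_center_iff]
    intro x
    apply Subtype.ext
    have := hy x x.2
    show (x : G) * y = y * x
    calc (x : G) * y = ((y : G) * x * (y : G)⁻¹) * y := by rw [this]
      _ = y * x := by group
  have hUone : ∀ w ∈ U, (∀ x ∈ K, w * x * w⁻¹ = x) → w = 1 := by
    intro w hw h
    have : w ∈ U ⊓ centralizer (K : Set G) := by
      refine ⟨hw, mem_centralizer_iff.mpr fun x hx => ?_⟩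
      calc x * w = (w * x * w⁻¹) * w := by rw [h x hx]
        _ = w * x := by group
    rw [hUC] at this
    exact mem_bot.mp this
  have hinv : ∀ w ∈ U, w⁻¹ = w := fun w hw => inv_eq_of_mul_eq_one_left (hel w hw)
  have huv : u * v = v * u := by
    have h1 := hel (u * v) (U.mul_mem hu hv)
    have h2 : (u * v)⁻¹ = u * v := inv_eq_of_mul_eq_one_left h1
    rw [← h2, mul_inv_rev, hinv u hu, hinv v hv]
  have huv1 : u * v ≠ 1 := by
    intro h
    apply hvu
    have : u * v = u * u := by rw [h, hel u hu]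
    exact mul_left_cancel this
  -- conjugation by products
  have hkl : ∀ x ∈ K, (u * v) * x * (u * v)⁻¹ = k * l * x * (k * l)⁻¹ := by
    intro x hx
    have h1 : l * x * l⁻¹ ∈ K := K.mul_mem (K.mul_mem hl hx) (K.inv_mem hl)
    calc (u * v) * x * (u * v)⁻¹ = u * (v * x * v⁻¹) * u⁻¹ := by group
      _ = u * (l * x * l⁻¹) * u⁻¹ := by rw [hvc x hx]
      _ = k * (l * x * l⁻¹) * k⁻¹ := huc _ h1
      _ = k * l * x * (k * l)⁻¹ := by group
  have hlk : ∀ x ∈ K, (v * u) * x * (v * u)⁻¹ = l * k * x * (l * k)⁻¹ := by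
    intro x hx
    have h1 : k * x * k⁻¹ ∈ K := K.mul_mem (K.mul_mem hk hx) (K.inv_mem hk)
    calc (v * u) * x * (v * u)⁻¹ = v * (u * x * u⁻¹) * v⁻¹ := by group
      _ = v * (k * x * k⁻¹) * v⁻¹ := by rw [huc x hx]
      _ = l * (k * x * k⁻¹) * l⁻¹ := hvc _ h1
      _ = l * k * x * (l * k)⁻¹ := by group
  obtain ⟨x, hx1, hx2, hx3⟩ := hG ⟨k, hk⟩ ⟨l, hl⟩ (by
    apply hcen
    intro x hx
    have h1 : k * x * k⁻¹ ∈ K := K.mul_mem (K.mul_mem hk hx) (K.inv_mem hk)
    show k * k * x * (k * k)⁻¹ = x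
    calc k * k * x * (k * k)⁻¹ = k * (k * x * k⁻¹) * k⁻¹ := by group
      _ = u * (k * x * k⁻¹) * u⁻¹ := (huc _ h1).symm
      _ = u * (u * x * u⁻¹) * u⁻¹ := by rw [huc x hx]
      _ = (u * u) * x * (u * u)⁻¹ := by group
      _ = x := by rw [hel u hu]; group) (by
    apply hcen
    intro x hx
    have h1 : l * x * l⁻¹ ∈ K := K.mul_mem (K.mul_mem hl hx) (K.inv_mem hl)
    show l * l * x * (l * l)⁻¹ = x
    calc l * l * x * (l * l)⁻¹ = l * (l * x * l⁻¹) * l⁻¹ := by group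
      _ = v * (l * x * l⁻¹) * v⁻¹ := (hvc _ h1).symm
      _ = v * (v * x * v⁻¹) * v⁻¹ := by rw [hvc x hx]
      _ = (v * v) * x * (v * v)⁻¹ := by group
      _ = x := by rw [hel v hv]; group) (by
    apply hcen
    intro x hx
    show (k * l * k⁻¹ * l⁻¹) * x * (k * l * k⁻¹ * l⁻¹)⁻¹ = x
    -- `(lk)⁻¹ x (lk) = (vu)⁻¹ x (vu)`
    have h1 : ((l * k)⁻¹ * x * (l * k)) ∈ K :=
      K.mul_mem (K.mul_mem (K.inv_mem (K.mul_mem hl hk)) hx) (K.mul_mem hl hk)
    have h2 := hlk _ h1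
    have h3 : (v * u) * ((l * k)⁻¹ * x * (l * k)) * (v * u)⁻¹ = x := by rw [h2]; group
    have h4 := hkl _ h1
    rw [huv, h3] at h4
    calc (k * l * k⁻¹ * l⁻¹) * x * (k * l * k⁻¹ * l⁻¹)⁻¹
        = k * l * ((l * k)⁻¹ * x * (l * k)) * (k * l)⁻¹ := by group
      _ = x := h4.symm) (by
    intro h
    apply hu1
    apply hUone u hu
    intro x hx
    rw [huc x hx]
    have h1 : x * k = k * x := congrArg Subtype.val (mem_center_iff.mp h ⟨x, hx⟩)
    rw [← h1]; group) (by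
    intro h
    apply hv1
    apply hUone v hv
    intro x hx
    rw [hvc x hx]
    have h1 : x * l = l * x := congrArg Subtype.val (mem_center_iff.mp h ⟨x, hx⟩)
    rw [← h1]; group) (by
    intro h
    apply huv1
    apply hUone _ (U.mul_mem hu hv)
    intro x hx
    rw [hkl x hx]
    have h1 : x * (k * l) = k * l * x := congrArg Subtype.val (mem_center_iff.mp h ⟨x, hx⟩)
    rw [← h1]; group)
  have hx1' : (x : G) * k = k * x := congrArg Subtype.val hx1
  have hxu : (x : G) * u = u * x := by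
    rw [huk, ← mul_assoc, hx1', mul_assoc, ← hcK x x.2, mul_assoc]
  have hxN := hUk u hu hu1 x x.2 hxu
  have h1 := (mem_normalizer_iff.mp hxN v).mp hv
  -- `x v x⁻¹ v⁻¹ = [x, l]`
  have h2 : (x : G) * v * (x : G)⁻¹ * v⁻¹ = (x : G) * l * (x : G)⁻¹ * l⁻¹ := by
    have h3 : d * (x : G)⁻¹ = (x : G)⁻¹ * d := hdK _ (K.inv_mem x.2)
    have h4 : d * l⁻¹ = l⁻¹ * d := hdK _ (K.inv_mem hl)
    rw [hvl]
    calc (x : G) * (l * d) * (x : G)⁻¹ * (l * d)⁻¹ = x * l * (d * (x : G)⁻¹) * d⁻¹ * l⁻¹ := by group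
      _ = x * l * ((x : G)⁻¹ * d) * d⁻¹ * l⁻¹ := by rw [h3]
      _ = _ := by group
  have h5 : (x : G) * v * (x : G)⁻¹ * v⁻¹ ∈ U := U.mul_mem h1 (U.inv_mem hv)
  have h6 : (x : G) * v * (x : G)⁻¹ * v⁻¹ = 1 := by
    apply hUone _ h5
    intro y hy
    rw [h2]
    have h7 : y * ((x : G) * l * (x : G)⁻¹ * l⁻¹) = (x : G) * l * (x : G)⁻¹ * l⁻¹ * y :=
      congrArg Subtype.val (mem_center_iff.mp hx2 ⟨y, hy⟩)
    rw [← h7]; group
  apply hx3
  apply Subtype.ext
  show (x : G) * l * (x : G)⁻¹ * l⁻¹ = 1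
  rw [← h2, h6]

end Cfsg.Agent.OddHalf.D9.RankTwo.StdFalse

end

-- merged: Cfsg.Agent.OddHalf.D9.RankTwo.SzRow
section

/-!
# The row: `K / Z(K)` a Suzuki group, `Z(K)` a noncyclic 2-group
-/

set_option autoImplicit false

namespace Cfsg.Agent.OddHalf.D9.RankTwo.SzRow

open Subgroup Cfsg
open Cfsg.Agent.OddHalf.Iface
open Cfsg.Agent.OddHalf.D9.RankTwo.Core
open Cfsg.Agent.OddHalf.D9.RankTwo.StdFalse

universe u

theorem card_ker (A : Type*) [Group A] :
    Nat.card {z : center A // z * z = 1} = Nat.card (powMonoidHom (α := center A) 2).ker := by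
  refine Nat.card_congr (Equiv.subtypeEquivRight fun z => ?_)
  show z * z = 1 ↔ z ^ 2 = 1
  rw [pow_two]

/-- **The row.** -/
theorem false_of_sz {G : Type u} [Group G] (T : MainTI.{u}) (R : Rows) (C : Ctx G) {K : Subgroup G}
    (hK : IsStandardSubgroup K) (h2 : IsPGroup 2 (center ↥K)) (hnc : ¬ IsCyclic (center ↥K))
    (hX : Cut.XSz (↥K ⧸ center ↥K)) : False := by
  have := C.fin
  obtain ⟨F, _, _, m, hm, hF, ⟨e⟩⟩ := hX
  have hp : _root_.commutator ↥K = ⊤ := (show Group.IsPerfect ↥K from hK.1.1).commutator_eq_top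
  obtain ⟨π, P, B⟩ := GH.Cov.SzCover.exists_base hm hF e
  refine std_false T R C hK ?_ (gamma_of_inner ?_ ?_)
  · rw [card_omg, card_ker]
    exact SzGamma.card_omega B hp h2 hm hnc
  · intro u hu huu _
    obtain ⟨a, ha⟩ := StdSz.CoverD.exists_inner hp hm hF e hu (k := 1) (by rw [pow_one, pow_two, huu])
    refine ⟨a, a.2, (a : G)⁻¹ * u, mem_centralizer_iff.mpr fun x hx => (ha x hx).symm, by group⟩
  · intro k1 k2 h1 h2' h12 n1 n2 n12
    exact SzGamma.gamma hp h2 hnc hm hF e h1 h2' h12 n1 n2 n12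

end Cfsg.Agent.OddHalf.D9.RankTwo.SzRow

end

-- merged: Cfsg.Agent.OddHalf.D9.L34Mult.Row
section

/-!
# Standard subgroups `(4 × 2).L3(4)`, `(4 × 4).L3(4)`

LEMMA W and GAMMA: the group is in the list of S1179.
-/

set_option autoImplicit false

namespace Cfsg.Agent.OddHalf.D9.L34Mult.Row

open Subgroup
open Cfsg.Agent.OddHalf.D9.LemmaW

universe u

/-- a centre with three involutions and no element of order four is a Klein four-group -/
theorem exists_sq_ne {M : Type*} [Group M] (h4 : Nat.card (omega M) = 4)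
    (hk : ¬ IsKleinFour (center M)) : ∃ z ∈ center M, z * z ≠ 1 := by
  by_contra hcon
  push Not at hcon
  apply hk
  have hc : Nat.card (center M) = 4 := by
    rw [← h4]
    apply Nat.card_congr
    exact
      { toFun := fun a => ⟨a.1, a.2, hcon a.1 a.2⟩
        invFun := fun a => ⟨a.1, a.2.1⟩
        left_inv := fun a => rfl
        right_inv := fun a => rfl }
  refine ⟨hc, ?_⟩
  have hdvd : Monoid.exponent (center M) ∣ 2 := by
    apply Monoid.exponent_dvd_of_forall_pow_eq_one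
    intro a
    rw [pow_two]
    exact Subtype.ext (hcon a.1 a.2)
  rcases (Nat.dvd_prime Nat.prime_two).mp hdvd with h | h
  · exfalso
    have h1 := Monoid.exp_eq_one_iff.mp h
    have := Nat.card_of_subsingleton (1 : center M)
    rw [hc] at this
    omega
  · exact h

/-- **The rows `(4 × 2).L3(4)` and `(4 × 4).L3(4)`.** -/
theorem standard_list_L34 {G : Type u} [Group G] [Finite G] [IsSimpleGroup G] (h1179 : H1179.{u})
    (hna : ¬ IsMulCommutative G) {K : Subgroup G} (hK : Cfsg.IsStandardSubgroup K)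
    (hZ2 : IsPGroup 2 (center ↥K)) (hnc : ¬ IsCyclic (center ↥K))
    (hnk : ¬ IsKleinFour (center ↥K)) {F : Type*} [Field F] [Fintype F]
    (hF : Fintype.card F = 4)
    (e : ↥K ⧸ center ↥K ≃* Matrix.ProjectiveSpecialLinearGroup (Fin 3) F) : List1179 G := by
  have hperf : _root_.commutator ↥K = ⊤ := (show Group.IsPerfect ↥K from hK.1.1).commutator_eq_top
  have hcard := card_omega hperf hZ2 hF e hnc
  have hne := exists_sq_ne hcard hnk
  have hmem : ∀ x : G, x ∈ (omega ↥K).map K.subtype ↔ ∃ h : x ∈ K, (⟨x, h⟩ : K) ∈ omega ↥K := by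
    intro x
    constructor
    · rintro ⟨y, hy, rfl⟩
      exact ⟨y.2, hy⟩
    · rintro ⟨h, hx⟩
      exact ⟨⟨x, h⟩, hx, rfl⟩
  refine standard_list (Z := (omega ↥K).map K.subtype) h1179 hna hK ?_ ?_ ?_ ?_ ?_
  · intro x hx
    obtain ⟨h, hx⟩ := (hmem x).mp hx
    rw [mem_centralizer_iff]
    intro k hk
    exact congrArg Subtype.val (mem_center_iff.mp hx.1 ⟨k, hk⟩)
  · have key : ∀ n ∈ normalizer (K : Set G), ∀ x ∈ (omega ↥K).map K.subtype,
        n * x * n⁻¹ ∈ (omega ↥K).map K.subtype := by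
      intro n hn x hx
      obtain ⟨h, hx⟩ := (hmem x).mp hx
      rw [hmem]
      refine ⟨(mem_normalizer_iff.mp hn x).mp h, ?_, ?_⟩
      · rw [mem_center_iff]
        intro k
        apply Subtype.ext
        show (k : G) * (n * x * n⁻¹) = n * x * n⁻¹ * k
        have hk : n⁻¹ * k * n ∈ K := by
          have := (mem_normalizer_iff.mp (inv_mem hn) (k : G)).mp k.2
          rwa [inv_inv] at this
        have h1 : (n⁻¹ * k * n) * x = x * (n⁻¹ * k * n) :=
          congrArg Subtype.val (mem_center_iff.mp hx.1 ⟨_, hk⟩)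
        calc (k : G) * (n * x * n⁻¹) = n * ((n⁻¹ * k * n) * x) * n⁻¹ := by group
          _ = n * (x * (n⁻¹ * k * n)) * n⁻¹ := by rw [h1]
          _ = _ := by group
      · apply Subtype.ext
        show n * x * n⁻¹ * (n * x * n⁻¹) = 1
        have h2 : x * x = 1 := congrArg Subtype.val hx.2
        calc n * x * n⁻¹ * (n * x * n⁻¹) = n * (x * x) * n⁻¹ := by group
          _ = 1 := by rw [h2]; group
    intro n hn
    rw [mem_normalizer_iff]
    intro x
    constructor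
    · exact key n hn x
    · intro hx
      have := key n⁻¹ (inv_mem hn) _ hx
      have e1 : n⁻¹ * (n * x * n⁻¹) * n⁻¹⁻¹ = x := by group
      rwa [e1] at this
  · intro x hx
    obtain ⟨h, hx⟩ := (hmem x).mp hx
    exact congrArg Subtype.val hx.2
  · rw [card_map_of_injective (subtype_injective _)]
    exact hcard
  · intro U hU2 hU4 hUK hUC _ hUN
    exact Gamma.gamma hperf hZ2 hF e hne U hU2 hU4 hUK hUC hUN

end Cfsg.Agent.OddHalf.D9.L34Mult.Row

end

-- merged: Cfsg.Agent.OddHalf.D9.RankTwo.LThreeRow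
section

/-!
# The rows `(4 × 2).L3(4)`, `(4 × 4).L3(4)`
-/

set_option autoImplicit false

namespace Cfsg.Agent.OddHalf.D9.RankTwo.LThreeRow

open Subgroup Cfsg
open Cfsg.Agent.OddHalf.Iface
open Cfsg.Agent.OddHalf.D9.RankTwo.Core
open Cfsg.Agent.OddHalf.D9.RankTwo.StdFalse

universe u

/-- **The row.** -/
theorem false_of_l34 {G : Type u} [Group G] (T : MainTI.{u}) (R : Rows) (C : Ctx G) {K : Subgroup G}
    (hK : IsStandardSubgroup K) (h2 : IsPGroup 2 (center ↥K)) (hnc : ¬ IsCyclic (center ↥K))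
    (hnk : ¬ IsKleinFour (center ↥K)) (hX : Cut.XL34 (↥K ⧸ center ↥K)) : False := by
  have := C.fin
  obtain ⟨F, _, _, hF, ⟨e⟩⟩ := hX
  have hp : _root_.commutator ↥K = ⊤ := (show Group.IsPerfect ↥K from hK.1.1).commutator_eq_top
  have hcard := L34Mult.card_omega hp h2 hF e hnc
  have hne := L34Mult.Row.exists_sq_ne hcard hnk
  refine std_false T R C hK ?_ ?_
  · rw [card_omg, ← hcard]
    refine Nat.card_congr ⟨fun z => ⟨z.1.1, z.1.2, ?_⟩, fun z => ⟨⟨z.1, z.2.1⟩, ?_⟩, fun z => rfl, fun z => rfl⟩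
    · exact congrArg Subtype.val z.2
    · exact Subtype.ext z.2.2
  · intro U hU2 hU4 hUK hUC _ hUN
    exact L34Mult.Gamma.gamma hp h2 hF e hne U hU2 hU4 hUK hUC hUN

end Cfsg.Agent.OddHalf.D9.RankTwo.LThreeRow

end

-- merged: Cfsg.Agent.OddHalf.D9.RankTwo.RowsD4
section

/-!
# ODD half, D4: the rows with `Z(K)` not cyclic

`v_sz8`, `non_l34`: the rows `v_sz8`, `non_l34` of `D4.Cut.RowsCov`; `v_row`: the rows `v_u62`, `v_o82`, `v_2e62` from
`¬ Tied X` and the innerness of the automorphisms of `2².X` which centralise the centre. No hypothesis on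
the 2-rank of `C(K)` and no maximality.
-/

set_option autoImplicit false
set_option linter.style.haveILetI false

namespace Cfsg.Agent.OddHalf.D9.RankTwo.RowsD4

open Subgroup Cfsg
open Cfsg.Agent.OddHalf.Iface
open Cfsg.Agent.OddHalf.D9.RankTwo.Core
open Cfsg.Agent.OddHalf.D9.RankTwo.StdFalse
open Cfsg.Agent.OddHalf.D9.Gamma
open Cfsg.Agent.OddHalf.D9.Cut
open Cfsg.Agent.OddHalf.D4.Cut

universe u

/-- The row of a property of `K`: standard, any centralizer. -/
def RowA (P : (K : Type u) → [Group K] → Prop) : Prop :=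
  ∀ (G : Type u) [Group G], Ctx G → ∀ K : Subgroup G, Std0 G K → P ↥K → False

theorem RowA.row0 {P : (K : Type u) → [Group K] → Prop} (h : RowA P) : Row0 P :=
  fun G _ C K S _ hP => h G C K S hP

/-- The automorphisms of `K` which are trivial on `Z(K)` are inner. -/
def InnerOne (K : Type u) [Group K] : Prop :=
  ∀ α : MulAut K, (∀ z ∈ center K, α z = z) → ∃ k : K, ∀ x, α x = k * x * k⁻¹

/-- Innerness for all covers `2².X`, `X` of type `P`. -/
def InnerFor (P : (X : Type u) → [Group X] → Prop) : Prop :=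
  ∀ (K : Type u) [Group K], Finite K → _root_.commutator K = ⊤ → Nat.card ↥(center K) = 4 →
    P (K ⧸ center K) → InnerOne K

/-- (GAMMA) from `¬ Tied (K / Z(K))` -/
theorem gamma_of_tied {G : Type u} [Group G] {K : Subgroup G} (hel : ∀ z ∈ center ↥K, z * z = 1)
    (hI : InnerOne ↥K) (hX : ¬ Tied (↥K ⧸ center ↥K)) : GammaFor K := by
  intro U hU2 hU4 hUN hUC hUZ hUk
  refine hX (tied hU2 hU4 hUC (fun u hu => ?_) hUk)
  have huN := hUN hu
  obtain ⟨k, hk⟩ := hI (K.normalizerMonoidHom ⟨u, huN⟩) (by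
    intro z hz
    apply Subtype.ext
    have h1 : (z : G) ∈ omg K :=
      mem_omg_iff.mpr ⟨z.2, hz, congrArg Subtype.val (hel z hz)⟩
    have h2 := hUZ u hu z h1
    show u * (z : G) * u⁻¹ = z
    rw [h2]; group)
  refine ⟨k, k.2, (k : G)⁻¹ * u, ?_, by group⟩
  rw [mem_centralizer_iff]
  intro x hx
  have h1 : u * x * u⁻¹ = (k : G) * x * (k : G)⁻¹ := congrArg Subtype.val (hk ⟨x, hx⟩)
  calc x * ((k : G)⁻¹ * u) = (k : G)⁻¹ * ((k : G) * x * (k : G)⁻¹) * u := by group
    _ = (k : G)⁻¹ * (u * x * u⁻¹) * u := by rw [h1]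
    _ = (k : G)⁻¹ * u * x := by group

theorem klein_sq {K : Type u} [Group K] (h : IsKleinFour ↥(center K)) : ∀ z ∈ center K, z * z = 1 := by
  intro z hz
  have := h.mul_self (⟨z, hz⟩ : ↥(center K))
  exact congrArg Subtype.val this

theorem klein_omg {G : Type u} [Group G] {K : Subgroup G} (h : IsKleinFour ↥(center ↥K)) :
    Nat.card (omg K) = 4 := by
  rw [card_omg, ← h.card_four]
  refine Nat.card_congr ⟨fun z => z.1, fun z => ⟨z, h.mul_self z⟩, fun z => rfl, fun z => rfl⟩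

/-- **The rows `2².X`**, `X` without tied involutions. -/
theorem v_row (T : MainTI.{u}) (R : Core.Rows) {P : (X : Type u) → [Group X] → Prop}
    (hT : ∀ (X : Type u) [Group X], P X → ¬ Tied X) (hI : InnerFor.{u} P) :
    RowA.{u} (fun K _ => Vier P K) := by
  intro G _ C K S hP
  haveI := C.fin
  have hp : _root_.commutator ↥K = ⊤ := (show Group.IsPerfect ↥K from S.std.1.1).commutator_eq_top
  exact std_false T R C S.std (klein_omg hP.1)
    (gamma_of_tied (klein_sq hP.1) (hI _ inferInstance hp hP.1.card_four hP.2) (hT _ hP.2))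

/-- **`2².Sz(8)`** -/
theorem v_sz8 (T : MainTI.{u}) (R : Core.Rows) : RowA.{u} (fun K _ => Vier (fun X _ => XSz8 X) K) := by
  intro G _ C K S hP
  refine SzRow.false_of_sz T R C S.std S.z2 ?_ ?_
  · intro hc
    have := hP.1
    exact IsKleinFour.not_isCyclic hc
  · obtain ⟨F, i1, i2, hF, ⟨e⟩⟩ := hP.2
    exact ⟨F, i1, i2, 1, le_refl 1, by rw [hF]; norm_num, ⟨e⟩⟩

/-- **`(4 × 2).L₃(4)`, `(4 × 4).L₃(4)`** -/
theorem non_l34' (T : MainTI.{u}) (R : Core.Rows) :
    RowA.{u} (fun K _ => ¬ IsCyclic ↥(center K) ∧ ¬ IsKleinFour ↥(center K) ∧ XL34 (K ⧸ center K)) := by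
  intro G _ C K S hP
  exact LThreeRow.false_of_l34 T R C S.std S.z2 hP.1 hP.2.1 hP.2.2

/-- The row `non_l34` of `D4.Cut.RowsCov`. -/
theorem non_l34 (T : MainTI.{u}) (R : Core.Rows) :
    Row0.{u} (fun K _ => ¬ IsCyclic ↥(center K) ∧ ¬ IsKleinFour ↥(center K) ∧
    (Nat.card ↥(center K) = 8 ∨ Nat.card ↥(center K) = 16) ∧
    Nat.card {z : ↥(center K) // z * z = 1} = 4 ∧ XL34 (K ⧸ center K)) :=
  fun G _ C K S _ hP => non_l34' T R G C K S ⟨hP.1, hP.2.1, hP.2.2.2.2⟩

/-- `U₆(2)` has no tied pair of involutions -/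
theorem not_tied_u62 {X : Type u} [Group X] (h : XU62 X) : ¬ Tied X := by
  obtain ⟨F, i1, i2, hF, ⟨e⟩⟩ := h
  exact fun hX => GamUSix.not_tied (by rw [hF]; norm_num) (Tied.of_equiv e hX)

/-- **`2².U₆(2)`** -/
theorem v_u62 (T : MainTI.{u}) (R : Core.Rows) (hI : InnerFor.{u} (fun X _ => XU62 X)) :
    RowA.{u} (fun K _ => Vier (fun X _ => XU62 X) K) :=
  v_row T R (fun _ _ h => not_tied_u62 h) hI

end Cfsg.Agent.OddHalf.D9.RankTwo.RowsD4

end
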