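import Cfsg.Agent.R01.Label
import Cfsg.Agent.R01.BaerSplit
import Cfsg.Agent.R01.InvForm
import Cfsg.Agent.KFacts.OddLift.Frat
import Cfsg.Agent.OddHalf.Table.OutUSix
import Cfsg.Agent.OddHalf.D9.Cut
import Cfsg.Agent.OddHalf.D9.RankTwo.RowsD4
import Cfsg.Agent.OddHalf.D9.MultOf
import Cfsg.Agent.OddHalf.D4.MultOf

-- merged: Cfsg.Agent.OddHalf.D9.RankTwo.LamK
section

/-!
# Central 2-extensions of `PSU 6 F 2`, `|F| = 4` (helper103)

`π : K → PSU 6 F 2` surjective, the kernel central and a 2-group. `exists_lamK`: the transvections have lifts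
`lam v` (`v` isotropic), permuted by `K` like the transvections, involutions, with product one over every
totally isotropic line.
-/

set_option autoImplicit false
set_option linter.unusedSectionVars false

namespace Cfsg.Agent.OddHalf.D9.RankTwo.LamK

open Cfsg Cfsg.Agent.LieClassical.HermBasic Cfsg.Agent.ClassicalGeometry.UnitTransv
open Cfsg.Agent.SporadicStructure.UnitTwo
open Cfsg.Agent.R01.Lifts Cfsg.Agent.R01.PSUSix
open Cfsg.Agent.ClassicalGeometry.UnitAutBasic (tau pr pr_surjective)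

theorem eq_one_of_pow {Z : Type*} [Group Z] (h2 : IsPGroup 2 Z) {c : Z} {n : ℕ} (hn : Odd n)
    (h : c ^ n = 1) : c = 1 := by
  obtain ⟨k, hk⟩ := h2 c
  have h1 : orderOf c ∣ n := orderOf_dvd_of_pow_eq_one h
  have h3 : orderOf c ∣ 2 ^ k := orderOf_dvd_of_pow_eq_one hk
  have h4 : Nat.Coprime (2 ^ k) n := (Nat.coprime_two_left.2 hn).pow_left k
  have h5 : orderOf c ∣ Nat.gcd (2 ^ k) n := Nat.dvd_gcd h3 h1
  rw [h4.gcd_eq_one, Nat.dvd_one] at h5
  exact orderOf_eq_one_iff.1 h5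

section General

variable {C U : Type*} [Group C] [Group U] {π : C →* U}

/-- elements with the same image differ by an element of the kernel -/
theorem mem_ker_of_eq {a b : C} (h : π a = π b) : π (b⁻¹ * a) = 1 := by
  rw [map_mul, map_inv, h, inv_mul_cancel]

/-- Lifts of a 3-transposition and of an element commuting with it commute. -/
theorem commute_lift (hs : Function.Surjective π) (hcen : ∀ z, π z = 1 → ∀ c : C, c * z = z * c)
    (hp : IsPGroup 2 π.ker) {T : Set U}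
    (h2 : ∀ a ∈ T, ∀ b ∈ T, ∀ a' ∈ T, ∀ b' ∈ T, a ≠ b → a' ≠ b' → Commute a b → Commute a' b' →
      ∃ g : U, g * a * g⁻¹ = a' ∧ g * b * g⁻¹ = b')
    (h3 : ∃ l : List U, Odd l.length ∧ (∀ x ∈ l, x ∈ T) ∧ l.prod = 1 ∧
      ∃ r ∈ T, ∀ x ∈ l, r ≠ x ∧ Commute r x)
    (h4 : ∀ t ∈ T, Subgroup.centralizer {t} ≤ Subgroup.closure (T ∩ {u | Commute t u}))
    {a g : C} (ha : π a ∈ T) (hc : Commute (π g) (π a)) : Commute g a := by
  obtain ⟨l, hlo, hlT, hlp, r, hrT, hr⟩ := h3
  choose σ hσ using hs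
  obtain ⟨x0, l', rfl⟩ : ∃ x0 l', l = x0 :: l' := by
    cases l with
    | nil => simp at hlo
    | cons x l => exact ⟨x, l, rfl⟩
  set ρ := σ r with hρ
  have hx0 := hr x0 List.mem_cons_self
  have hx0T := hlT x0 List.mem_cons_self
  set ζ : C := (σ x0)⁻¹ * (ρ * σ x0 * ρ⁻¹) with hζ
  have hζ1 : π ζ = 1 := by
    rw [hζ, map_mul, map_inv, map_mul, map_mul, map_inv, hσ, hρ, hσ, (hx0.2).eq, mul_inv_cancel_right,
      inv_mul_cancel]
  have hζc := hcen ζ hζ1
  -- all pairs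
  have hall : ∀ a b : C, π a ∈ T → π b ∈ T → π a ≠ π b → Commute (π a) (π b) → a * b * a⁻¹ = b * ζ := by
    intro a b ha hb hne hab
    obtain ⟨g, hg1, hg2⟩ := h2 (π a) ha (π b) hb r hrT x0 hx0T hne hx0.1 hab hx0.2
    set γ := σ g with hγ
    have e1 : π (ρ⁻¹ * (γ * a * γ⁻¹)) = 1 := by
      apply mem_ker_of_eq
      rw [map_mul, map_mul, map_inv, hγ, hσ, hg1, hρ, hσ]
    have e2 : π ((σ x0)⁻¹ * (γ * b * γ⁻¹)) = 1 := by
      apply mem_ker_of_eq
      rw [map_mul, map_mul, map_inv, hγ, hσ, hg2, hσ]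
    set z1 := ρ⁻¹ * (γ * a * γ⁻¹) with hz1
    set z2 := (σ x0)⁻¹ * (γ * b * γ⁻¹) with hz2
    have f1 : γ * a * γ⁻¹ = ρ * z1 := by rw [hz1, mul_inv_cancel_left]
    have f2 : γ * b * γ⁻¹ = σ x0 * z2 := by rw [hz2, mul_inv_cancel_left]
    have c1 := hcen z1 e1
    have c2 := hcen z2 e2
    have key : γ * (a * b * a⁻¹) * γ⁻¹ = γ * (b * ζ) * γ⁻¹ := by
      calc γ * (a * b * a⁻¹) * γ⁻¹ = (γ * a * γ⁻¹) * (γ * b * γ⁻¹) * (γ * a * γ⁻¹)⁻¹ := by group
        _ = ρ * z1 * (σ x0 * z2) * (ρ * z1)⁻¹ := by rw [f1, f2]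
        _ = ρ * (z1 * (σ x0 * z2)) * z1⁻¹ * ρ⁻¹ := by group
        _ = ρ * ((σ x0 * z2) * z1) * z1⁻¹ * ρ⁻¹ := by rw [c1]
        _ = ρ * σ x0 * (z2 * ρ⁻¹) := by group
        _ = ρ * σ x0 * (ρ⁻¹ * z2) := by rw [c2]
        _ = σ x0 * ((σ x0)⁻¹ * (ρ * σ x0 * ρ⁻¹)) * z2 := by group
        _ = σ x0 * (ζ * z2) := by rw [← hζ, mul_assoc]
        _ = σ x0 * z2 * ζ := by rw [c2 ζ, ← mul_assoc]
        _ = (γ * b * γ⁻¹) * ζ := by rw [f2]
        _ = γ * b * (γ⁻¹ * ζ) := by group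
        _ = γ * b * (ζ * γ⁻¹) := by rw [hζc]
        _ = γ * (b * ζ) * γ⁻¹ := by group
    exact mul_left_cancel (mul_right_cancel key)
  -- `ζ = 1`
  have hζe : ζ = 1 := by
    have h5 : ∀ y ∈ ((x0 :: l').map σ), ρ * y * ρ⁻¹ = y * ζ := by
      intro y hy
      obtain ⟨x, hx, rfl⟩ := List.mem_map.1 hy
      apply hall
      · rw [hρ, hσ]; exact hrT
      · rw [hσ]; exact hlT x hx
      · rw [hρ, hσ, hσ]; exact (hr x hx).1
      · rw [hρ, hσ, hσ]; exact (hr x hx).2
    have h6 := conj_prod hζc _ h5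
    have h7 : π ((x0 :: l').map σ).prod = 1 := by
      rw [map_list_prod, List.map_map]
      have : (x0 :: l').map (π ∘ σ) = x0 :: l' := by
        conv_rhs => rw [← List.map_id (x0 :: l')]
        exact List.map_congr_left fun x _ => hσ x
      rw [this, hlp]
    have h8 := hcen _ h7 ρ
    rw [h8, mul_inv_cancel_right, List.length_map] at h6
    have h9 : ζ ^ (x0 :: l').length = 1 := by
      have := h6.symm
      rwa [mul_eq_left] at this
    have h10 : (⟨ζ, hζ1⟩ : π.ker) = 1 := eq_one_of_pow hp hlo (Subtype.ext (by simpa using h9))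
    exact congrArg Subtype.val h10
  -- the general case
  have h11 : π g ∈ Subgroup.closure (T ∩ {u | Commute (π a) u}) := by
    apply h4 _ ha
    rw [Subgroup.mem_centralizer_singleton_iff]
    exact hc.eq
  have h12 : ∀ x ∈ Subgroup.closure (T ∩ {u | Commute (π a) u}), ∀ g : C, π g = x → Commute g a := by
    intro x hx
    refine Subgroup.closure_induction (p := fun x _ => ∀ g : C, π g = x → Commute g a) ?_ ?_ ?_ ?_ hx
    · rintro x ⟨hxT, hxc⟩ g rfl
      by_cases h : π g = π a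
      · have h13 := hcen _ (mem_ker_of_eq h) a
        show g * a = a * g
        calc g * a = a * (a⁻¹ * g) * a := by group
          _ = a * (a * (a⁻¹ * g)) := by rw [mul_assoc, ← h13]
          _ = a * g := by group
      · have h13 := hall g a hxT ha h hxc.symm
        rw [hζe, mul_one, mul_inv_eq_iff_eq_mul] at h13
        exact h13
    · intro g hg
      exact (hcen g hg a).symm
    · intro x y _ _ hx hy g hg
      have h13 : π ((σ x * σ y)⁻¹ * g) = 1 := mem_ker_of_eq (by rw [hg, map_mul, hσ, hσ])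
      have h14 : g = (σ x * σ y) * ((σ x * σ y)⁻¹ * g) := by group
      rw [h14]
      exact ((hx _ (hσ x)).mul_left (hy _ (hσ y))).mul_left (hcen _ h13 a).symm
    · intro x _ hx g hg
      have := hx g⁻¹ (by rw [map_inv, hg, inv_inv])
      simpa using this.inv_left
  exact h12 _ h11 g rfl

end General

variable {F : Type*} [Field F] [Fintype F] (hF : Fintype.card F = 2 ^ 2)
variable {K : Type*} [Group K] (π : K →* PSU 6 F 2) (lam : (Fin 6 → F) → K)

/-- The lifts of the transvections, normalised by the products over the totally isotropic lines. -/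
structure Sys : Prop where
  surj : Function.Surjective π
  cen : ∀ z, π z = 1 → ∀ k : K, k * z = z * k
  pi : ∀ v, hermForm 6 F 2 v v = 0 → π (lam v) = tau hF v
  conj : ∀ (c : K) (g : SU 6 F 2) (v : Fin 6 → F), hermForm 6 F 2 v v = 0 → π c = pr 6 F 2 g →
    c * lam v * c⁻¹ = lam (act g v)
  zero : lam 0 = 1
  smul : ∀ (a : F) (v : Fin 6 → F), a ≠ 0 → hermForm 6 F 2 v v = 0 → lam (a • v) = lam v
  sq : ∀ v, hermForm 6 F 2 v v = 0 → lam v * lam v = 1
  line : ∀ (a b : Fin 6 → F) (ω : F), hermForm 6 F 2 a a = 0 → hermForm 6 F 2 b b = 0 →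
    hermForm 6 F 2 a b = 0 → (∀ x y : F, x • a + y • b = 0 → x = 0 ∧ y = 0) → ω ^ 2 + ω + 1 = 0 →
    lam a * lam b * lam (a + b) * lam (ω • a + b) * lam (ω ^ 2 • a + b) = 1

variable {hF π lam}

theorem act_ne_zero {g : SU 6 F 2} {v : Fin 6 → F} (h0 : v ≠ 0) : act g v ≠ 0 := by
  intro h
  apply h0
  apply act_injective g
  rw [h, act_zero]

/-- The odd configuration on a totally isotropic plane. -/
theorem exists_config (hF : Fintype.card F = 2 ^ 2) : ∃ l : List (PSU 6 F 2), Odd l.length ∧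
    (∀ x ∈ l, x ∈ TT hF 6) ∧ l.prod = 1 ∧ ∃ r ∈ TT hF 6, ∀ x ∈ l, r ≠ x ∧ Commute r x := by
  obtain ⟨ω, hω⟩ := exists_omega hF
  have h2 := two_eq_zero hF
  -- vectors
  let a : Fin 6 → F := ![1, 1, 0, 0, 0, 0]
  let b : Fin 6 → F := ![0, 0, 1, 1, 0, 0]
  let r : Fin 6 → F := ![0, 0, 0, 0, 1, 1]
  have haa : hermForm 6 F 2 a a = 0 := by
    rw [herm_def]; simp [a, Fin.sum_univ_succ]; linear_combination h2
  have hbb : hermForm 6 F 2 b b = 0 := by
    rw [herm_def]; simp [b, Fin.sum_univ_succ]; linear_combination h2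
  have hrr : hermForm 6 F 2 r r = 0 := by
    rw [herm_def]; simp [r, Fin.sum_univ_succ]; linear_combination h2
  have hab : hermForm 6 F 2 a b = 0 := by
    rw [herm_def]; simp [a, b, Fin.sum_univ_succ]
  have hra : hermForm 6 F 2 r a = 0 := by
    rw [herm_def]; simp [a, r, Fin.sum_univ_succ]
  have hrb : hermForm 6 F 2 r b = 0 := by
    rw [herm_def]; simp [b, r, Fin.sum_univ_succ]
  have hba := herm_eq_zero_swap hF hab
  have hne0 : ∀ s t : F, (s ≠ 0 ∨ t ≠ 0) → s • a + t • b ≠ 0 := by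
    intro s t hst h0
    have e0 := congrFun h0 0
    have e2 := congrFun h0 2
    simp [a, b] at e0 e2
    rcases hst with h | h
    · exact h e0
    · exact h e2
  have hr0 : r ≠ 0 := by
    intro h
    have := congrFun h 4
    simp [r] at this
  have hrne : ∀ s t c : F, r ≠ c • (s • a + t • b) := by
    intro s t c h
    have := congrFun h 4
    simp [r, a, b] at this
  clear_value a b r
  have horth : ∀ s t s' t' : F, hermForm 6 F 2 (s • a + t • b) (s' • a + t' • b) = 0 := by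
    intro s t s' t'
    rw [herm_add_left, herm_add_right hF, herm_add_right hF, herm_smul_left, herm_smul_left,
      herm_smul_right, herm_smul_right, herm_smul_left, herm_smul_left,
      herm_smul_right, herm_smul_right, haa, hbb, hab, hba]
    ring
  have hrorth : ∀ s t : F, hermForm 6 F 2 r (s • a + t • b) = 0 := by
    intro s t
    rw [herm_add_right hF, herm_smul_right, herm_smul_right, hra, hrb]
    ring
  have hmem : ∀ x ∈ [tau hF a, tau hF b, tau hF (a + b), tau hF (ω • a + b),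
      tau hF (ω ^ 2 • a + b)], ∃ s t : F, (s ≠ 0 ∨ t ≠ 0) ∧ x = tau hF (s • a + t • b) := by
    intro x hx
    simp only [List.mem_cons, List.not_mem_nil, or_false] at hx
    rcases hx with rfl | rfl | rfl | rfl | rfl
    · exact ⟨1, 0, Or.inl one_ne_zero, by rw [one_smul, zero_smul, add_zero]⟩
    · exact ⟨0, 1, Or.inr one_ne_zero, by rw [one_smul, zero_smul, zero_add]⟩
    · exact ⟨1, 1, Or.inl one_ne_zero, by rw [one_smul, one_smul]⟩
    · exact ⟨ω, 1, Or.inr one_ne_zero, by rw [one_smul]⟩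
    · exact ⟨ω ^ 2, 1, Or.inr one_ne_zero, by rw [one_smul]⟩
  refine ⟨[tau hF a, tau hF b, tau hF (a + b), tau hF (ω • a + b), tau hF (ω ^ 2 • a + b)],
    ⟨2, rfl⟩, ?_, ?_, tau hF r, tau_mem hF hr0 hrr, ?_⟩
  · intro x hx
    obtain ⟨s, t, hst, rfl⟩ := hmem x hx
    exact tau_mem hF (hne0 s t hst) (horth s t s t)
  · simp only [List.prod_cons, List.prod_nil, mul_one, ← mul_assoc]
    exact line_prod hF haa hbb hab hω
  · intro x hx
    obtain ⟨s, t, hst, rfl⟩ := hmem x hx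
    refine ⟨?_, (tau_commute_iff hF (by norm_num) hrr (horth s t s t) hr0).2 (hrorth s t)⟩
    intro h
    obtain ⟨c, hc0, hc⟩ := (tau_eq_iff hF (by norm_num) (horth s t s t) hrr (hne0 s t hst)).1 h.symm
    exact hrne s t c hc

/-- A totally isotropic line. -/
theorem exists_line (hF : Fintype.card F = 2 ^ 2) : ∃ a b : Fin 6 → F, a ≠ 0 ∧ b ≠ 0 ∧
    hermForm 6 F 2 a a = 0 ∧ hermForm 6 F 2 b b = 0 ∧ hermForm 6 F 2 a b = 0 ∧ ¬ ∃ c : F, b = c • a := by
  have h2 := two_eq_zero hF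
  refine ⟨![1, 1, 0, 0, 0, 0], ![0, 0, 1, 1, 0, 0], ?_, ?_, ?_, ?_, ?_, ?_⟩
  · intro h
    simpa using congrFun h 0
  · intro h
    simpa using congrFun h 2
  · rw [herm_def]; simp [Fin.sum_univ_succ]; linear_combination h2
  · rw [herm_def]; simp [Fin.sum_univ_succ]; linear_combination h2
  · rw [herm_def]; simp [Fin.sum_univ_succ]
  · rintro ⟨c, hc⟩
    simpa using congrFun hc 2

/-- Elements commuting with a transvection modulo the kernel commute with its lifts. -/
theorem commute_lift_psu (hF : Fintype.card F = 2 ^ 2) (hs : Function.Surjective π)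
    (hcen : ∀ z, π z = 1 → ∀ c : K, c * z = z * c)
    (hp : IsPGroup 2 π.ker) {a g : K} (ha : π a ∈ TT hF 6) (hc : Commute (π g) (π a)) : Commute g a :=
  commute_lift hs hcen hp (Cfsg.Agent.R01.PSUSix.trans_commuting hF (by norm_num)) (exists_config hF)
    (centralizer_le hF) ha hc

/-- **Existence of the lifts.** -/
theorem exists_lamK (hF : Fintype.card F = 2 ^ 2) (hs : Function.Surjective π)
    (hcen : ∀ z, π z = 1 → ∀ c : K, c * z = z * c) (hp : IsPGroup 2 π.ker) :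
    ∃ lam : (Fin 6 → F) → K, Sys hF π lam := by
  classical
  have hcent : ∀ a g : K, π a ∈ TT hF 6 → Commute (π g) (π a) → Commute g a := fun a g =>
    commute_lift_psu hF hs hcen hp
  have htr : ∀ v w : Fin 6 → F, v ≠ 0 → w ≠ 0 → hermForm 6 F 2 v v = 0 → hermForm 6 F 2 w w = 0 →
      ∃ c : K, π c * tau hF v * (π c)⁻¹ = tau hF w := by
    intro v w hv0 hw0 hv hw
    obtain ⟨g, d, hd, hg⟩ := exists_map hF v w hv0 hw0 hv hw
    obtain ⟨c, hc⟩ := hs (pr 6 F 2 g)
    exact ⟨c, by rw [hc, conj_tau hF g hv, hg, tau_smul hF hw hd]⟩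
  obtain ⟨_, ⟨v0, hv00, hv0, rfl⟩, -⟩ := (exists_config hF).choose_spec.2.2.2
  obtain ⟨t0, ht0⟩ := hs (tau hF v0)
  -- the class of `t0`
  have hsurj : ∀ v : Fin 6 → F, v ≠ 0 → hermForm 6 F 2 v v = 0 →
      ∃ x : K, IsConj t0 x ∧ π x = tau hF v := by
    intro v h0 hv
    obtain ⟨c, hc⟩ := htr v0 v hv00 h0 hv0 hv
    exact ⟨c * t0 * c⁻¹, isConj_iff.2 ⟨c, rfl⟩, by rw [map_mul, map_mul, map_inv, ht0, hc]⟩
  have hinj : ∀ x y : K, IsConj t0 x → IsConj t0 y → π x = π y → x = y := by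
    intro x y hx hy hxy
    obtain ⟨c, rfl⟩ := isConj_iff.1 hx
    obtain ⟨d, rfl⟩ := isConj_iff.1 hy
    have h1 : Commute (d⁻¹ * c) t0 := by
      apply hcent
      · rw [ht0]; exact tau_mem hF hv00 hv0
      · show π (d⁻¹ * c) * π t0 = π t0 * π (d⁻¹ * c)
        simp only [map_mul, map_inv] at hxy ⊢
        calc (π d)⁻¹ * π c * π t0 = (π d)⁻¹ * (π c * π t0 * (π c)⁻¹) * π c := by group
          _ = (π d)⁻¹ * (π d * π t0 * (π d)⁻¹) * π c := by rw [hxy]
          _ = π t0 * ((π d)⁻¹ * π c) := by group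
    calc c * t0 * c⁻¹ = d * ((d⁻¹ * c) * t0) * c⁻¹ := by group
      _ = d * (t0 * (d⁻¹ * c)) * c⁻¹ := by rw [h1.eq]
      _ = d * t0 * d⁻¹ := by group
  let lift : (Fin 6 → F) → K := fun v =>
    if hv : v ≠ 0 ∧ hermForm 6 F 2 v v = 0 then (hsurj v hv.1 hv.2).choose else 1
  have hlift : ∀ v : Fin 6 → F, v ≠ 0 → hermForm 6 F 2 v v = 0 →
      IsConj t0 (lift v) ∧ π (lift v) = tau hF v := by
    intro v h0 hv
    simp only [lift, dif_pos (And.intro h0 hv)]
    exact (hsurj v h0 hv).choose_spec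
  have huniq : ∀ v : Fin 6 → F, v ≠ 0 → hermForm 6 F 2 v v = 0 → ∀ x, IsConj t0 x → π x = tau hF v →
      x = lift v := by
    intro v h0 hv x hx hxv
    exact hinj _ _ hx (hlift v h0 hv).1 (by rw [hxv, (hlift v h0 hv).2])
  have hsmul : ∀ v (c : F), hermForm 6 F 2 v v = 0 → c ≠ 0 → lift (c • v) = lift v := by
    intro v c hv hc
    by_cases h0 : v = 0
    · subst h0; rw [smul_zero]
    · have h0' : c • v ≠ 0 := smul_ne_zero hc h0
      have hv' := herm_smul_self hF hv c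
      apply huniq v h0 hv _ (hlift _ h0' hv').1
      rw [(hlift _ h0' hv').2, tau_smul hF hv hc]
  have hconj : ∀ c g v, π c = pr 6 F 2 g → v ≠ 0 → hermForm 6 F 2 v v = 0 →
      c * lift v * c⁻¹ = lift (act g v) := by
    intro c g v hc h0 hv
    apply huniq _ (act_ne_zero h0) (by rw [herm_act, hv]) _
      ((hlift v h0 hv).1.trans (isConj_iff.2 ⟨c, rfl⟩))
    rw [map_mul, map_mul, map_inv, hc, (hlift v h0 hv).2, conj_tau hF g hv]
  have hcommL : ∀ v w : Fin 6 → F, v ≠ 0 → w ≠ 0 → hermForm 6 F 2 v v = 0 →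
      hermForm 6 F 2 w w = 0 → hermForm 6 F 2 v w = 0 → Commute (lift v) (lift w) := by
    intro v w hv0 hw0 hv hw hvw
    apply hcent
    · rw [(hlift w hw0 hw).2]; exact tau_mem hF hw0 hw
    · rw [(hlift w hw0 hw).2, (hlift v hv0 hv).2]
      exact (tau_commute_iff hF (by norm_num) hv hw hv0).2 hvw
  obtain ⟨ω₀, hω₀⟩ := exists_omega hF
  have hω3 := omega_cubed hω₀
  have hω0 : ω₀ ≠ 0 := by rintro rfl; simp at hω₀
  have h2 := two_eq_zero hF
  -- the lines
  let Line : (Fin 6 → F) → (Fin 6 → F) → Prop := fun a b => a ≠ 0 ∧ b ≠ 0 ∧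
    hermForm 6 F 2 a a = 0 ∧ hermForm 6 F 2 b b = 0 ∧ hermForm 6 F 2 a b = 0 ∧
    ¬ ∃ c : F, b = c • a
  let P : (Fin 6 → F) → (Fin 6 → F) → K := fun a b =>
    lift a * lift b * lift (a + b) * lift (ω₀ • a + b) * lift (ω₀ ^ 2 • a + b)
  have hpt : ∀ a b, Line a b → ∀ c : F, c • a + b ≠ 0 ∧
      hermForm 6 F 2 (c • a + b) (c • a + b) = 0 := by
    rintro a b ⟨ha0, hb0, ha, hb, hab, hne⟩ c
    refine ⟨fun h => hne ⟨-c, ?_⟩, ?_⟩
    · rw [neg_smul]; exact eq_neg_of_add_eq_zero_right h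
    · rw [herm_add_left, herm_add_right hF, herm_add_right hF, herm_smul_left, herm_smul_left,
        herm_smul_right, herm_smul_right, ha, hb, hab, herm_eq_zero_swap hF hab]
      ring
  have hptc : ∀ a b, Line a b → ∀ c d : F, Commute (lift (c • a + b)) (lift (d • a + b)) := by
    intro a b hL c d
    obtain ⟨h1, h2⟩ := hpt a b hL c
    obtain ⟨h3, h4⟩ := hpt a b hL d
    apply hcommL _ _ h1 h3 h2 h4
    obtain ⟨ha0, hb0, ha, hb, hab, hne⟩ := hL
    rw [herm_add_left, herm_add_right hF, herm_add_right hF, herm_smul_left, herm_smul_left,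
      herm_smul_right, herm_smul_right, ha, hb, hab, herm_eq_zero_swap hF hab]
    ring
  have hP1 : ∀ a b, Line a b → π (P a b) = 1 := by
    intro a b hL
    have e1 := (hlift _ (hpt a b hL 1).1 (hpt a b hL 1).2).2
    have e2 := (hlift _ (hpt a b hL ω₀).1 (hpt a b hL ω₀).2).2
    have e3 := (hlift _ (hpt a b hL (ω₀ ^ 2)).1 (hpt a b hL (ω₀ ^ 2)).2).2
    rw [one_smul] at e1
    obtain ⟨ha0, hb0, ha, hb, hab, hne⟩ := hL
    simp only [P, map_mul]
    rw [(hlift a ha0 ha).2, (hlift b hb0 hb).2, e1, e2, e3]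
    exact line_prod hF ha hb hab hω₀
  have hPcyc : ∀ a b, Line a b → ∀ l : F, l ≠ 0 → lift (l • a + b) * lift ((ω₀ * l) • a + b) *
      lift ((ω₀ ^ 2 * l) • a + b) = lift (a + b) * lift (ω₀ • a + b) * lift (ω₀ ^ 2 • a + b) := by
    intro a b hL l hl
    have c1 := hptc a b hL 1 ω₀
    have c2 := hptc a b hL 1 (ω₀ ^ 2)
    have c3 := hptc a b hL ω₀ (ω₀ ^ 2)
    rw [one_smul] at c1 c2
    have hl' : l = 1 ∨ l = ω₀ ∨ l = ω₀ ^ 2 := by
      have h3 := pow_three hF hl
      have : (l - 1) * ((l - ω₀) * (l - ω₀ ^ 2)) = 0 := by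
        linear_combination h3 + (l - l ^ 2) * hω₀ + (l - 1) * hω3
      rcases mul_eq_zero.1 this with h5 | h5
      · left; linear_combination h5
      · rcases mul_eq_zero.1 h5 with h5 | h5
        · right; left; linear_combination h5
        · right; right; linear_combination h5
    rcases hl' with hl' | hl' | hl' <;> rw [hl']
    · rw [one_smul, mul_one, mul_one]
    · have e1 : ω₀ * ω₀ = ω₀ ^ 2 := by ring
      have e2 : ω₀ ^ 2 * ω₀ = 1 := by linear_combination hω3
      rw [e1, e2, one_smul]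
      rw [(c1.mul_right c2).eq.symm]
      group
    · have e1 : ω₀ * ω₀ ^ 2 = 1 := by linear_combination hω3
      have e2 : ω₀ ^ 2 * ω₀ ^ 2 = ω₀ := by linear_combination ω₀ * hω3
      rw [e1, e2, one_smul]
      rw [mul_assoc, (c2.symm.mul_right c3.symm).eq]
  have hPs : ∀ a b, Line a b → ∀ c d : F, c ≠ 0 → d ≠ 0 → P (c • a) (d • b) = P a b := by
    intro a b hL c d hc hd
    have e0 : ∀ s : F, lift (s • (c • a) + d • b) = lift ((s * (c * d⁻¹)) • a + b) := by
      intro s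
      have : s • (c • a) + d • b = d • ((s * (c * d⁻¹)) • a + b) := by
        rw [smul_add, smul_smul, smul_smul]
        congr 2
        field_simp
      rw [this, hsmul _ d (hpt a b hL _).2 hd]
    have e1 := e0 1
    rw [one_smul, one_mul] at e1
    simp only [P]
    rw [hsmul a c hL.2.2.1 hc, hsmul b d hL.2.2.2.1 hd, e1, e0, e0]
    have := hPcyc a b hL (c * d⁻¹) (mul_ne_zero hc (inv_ne_zero hd))
    simp only [mul_assoc] at this ⊢
    rw [this]
  have hPg : ∀ a b, Line a b → ∀ g : SU 6 F 2, P (act g a) (act g b) = P a b := by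
    intro a b hL g
    obtain ⟨c, hc⟩ := hs (pr 6 F 2 g)
    have f1 := hconj c g _ hc hL.1 hL.2.2.1
    have f2 := hconj c g _ hc hL.2.1 hL.2.2.2.1
    have f3 := fun s : F => hconj c g _ hc (hpt a b hL s).1 (hpt a b hL s).2
    have f4 := f3 1
    simp only [act_add, act_smul] at f3
    rw [one_smul, act_add] at f4
    have : P (act g a) (act g b) = c * P a b * c⁻¹ := by
      simp only [P]
      rw [← f1, ← f2, ← f4, ← f3, ← f3]
      group
    rw [this, hcen _ (hP1 a b hL), mul_inv_cancel_right]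
  have hPall : ∀ a b a' b', Line a b → Line a' b' → P a b = P a' b' := by
    intro a b a' b' hL hL'
    obtain ⟨ha0, hb0, ha, hb, hab, hne⟩ := hL
    obtain ⟨ha0', hb0', ha', hb', hab', hne'⟩ := hL'
    obtain ⟨x, hx1, hx2⟩ := Cfsg.Agent.R01.PSUSix.trans_commuting hF (by norm_num : 3 ≤ 6) _ (tau_mem hF ha0 ha) _
      (tau_mem hF hb0 hb) _ (tau_mem hF ha0' ha') _ (tau_mem hF hb0' hb')
      (fun h5 => by
        obtain ⟨c, -, hc⟩ := (tau_eq_iff hF (by norm_num) ha hb ha0).1 h5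
        exact hne ⟨c, hc⟩)
      (fun h5 => by
        obtain ⟨c, -, hc⟩ := (tau_eq_iff hF (by norm_num) ha' hb' ha0').1 h5
        exact hne' ⟨c, hc⟩)
      ((tau_commute_iff hF (by norm_num) ha hb ha0).2 hab)
      ((tau_commute_iff hF (by norm_num) ha' hb' ha0').2 hab')
    obtain ⟨g, rfl⟩ := pr_surjective x
    rw [conj_tau hF g ha, eq_comm, tau_eq_iff hF (by norm_num) ha' (by rw [herm_act, ha]) ha0'] at hx1
    rw [conj_tau hF g hb, eq_comm, tau_eq_iff hF (by norm_num) hb' (by rw [herm_act, hb]) hb0'] at hx2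
    obtain ⟨c, hc0, hc⟩ := hx1
    obtain ⟨d, hd0, hd⟩ := hx2
    rw [← hPg a b ⟨ha0, hb0, ha, hb, hab, hne⟩ g, hc, hd,
      hPs a' b' ⟨ha0', hb0', ha', hb', hab', hne'⟩ c d hc0 hd0]
  -- the normalisation
  obtain ⟨ε₀, hε1, hε₀⟩ : ∃ ε₀ : K, π ε₀ = 1 ∧ ∀ a b, Line a b → P a b = ε₀ := by
    by_cases hex : ∃ a b, Line a b
    · obtain ⟨a, b, hL⟩ := hex
      exact ⟨P a b, hP1 a b hL, fun a' b' hL' => hPall a' b' a b hL' hL⟩
    · exact ⟨1, map_one π, fun a b hL => absurd ⟨a, b, hL⟩ hex⟩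
  obtain ⟨ζ, hζ1, hζ5⟩ : ∃ ζ : K, π ζ = 1 ∧ ζ ^ 5 * ε₀ = 1 := by
    have hco : Nat.Coprime 2 5 := by norm_num
    refine ⟨((hp.powEquiv hco).symm (⟨ε₀, hε1⟩ : π.ker)⁻¹ : π.ker), ?_, ?_⟩
    · exact ((hp.powEquiv hco).symm (⟨ε₀, hε1⟩ : π.ker)⁻¹ : π.ker).2
    · have h5 : ((hp.powEquiv hco).symm (⟨ε₀, hε1⟩ : π.ker)⁻¹) ^ 5 = (⟨ε₀, hε1⟩ : π.ker)⁻¹ := by
        have := (hp.powEquiv hco).apply_symm_apply (⟨ε₀, hε1⟩ : π.ker)⁻¹
        rwa [IsPGroup.powEquiv_apply] at this
      have h6 := congrArg Subtype.val h5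
      rw [Subgroup.coe_pow] at h6
      rw [h6]
      simp
  have hζc := hcen ζ hζ1
  have hline : ∀ a b, Line a b → (lift a * ζ) * (lift b * ζ) * (lift (a + b) * ζ) * (lift (ω₀ • a + b) * ζ) *
      (lift (ω₀ ^ 2 • a + b) * ζ) = 1 := by
    intro a b hL
    have h5 : ∀ x y : K, x * ζ * (y * ζ) = x * y * (ζ * ζ) := fun x y => by
      rw [mul_assoc, ← mul_assoc ζ, ← hζc y]; group
    have h6 : ∀ n : ℕ, ∀ x y : K, x * ζ ^ n * (y * ζ) = x * y * ζ ^ (n + 1) := fun n x y => by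
      have h7 : y * ζ ^ n = ζ ^ n * y := by
        induction n with
        | zero => simp
        | succ n ih => rw [pow_succ, ← mul_assoc, ih, mul_assoc, hζc, mul_assoc]
      rw [mul_assoc, ← mul_assoc (ζ ^ n), ← h7, pow_succ]; group
    have h7 := h6 1
    have h8 := h6 2
    have h9 := h6 3
    have h10 := h6 4
    rw [pow_one] at h7
    rw [h7, h8, h9, h10]
    have := hε₀ a b hL
    simp only [P] at this
    rw [this, show (4 + 1 : ℕ) = 5 from rfl]
    have h11 : ε₀ * ζ ^ 5 = ζ ^ 5 * ε₀ := by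
      rw [← hcen ε₀ hε1 (ζ ^ 5)]
    rw [h11, hζ5]
  -- the squares
  have hsq : ∀ v : Fin 6 → F, v ≠ 0 → hermForm 6 F 2 v v = 0 → (lift v * ζ) * (lift v * ζ) = 1 := by
    have hπ : ∀ v : Fin 6 → F, v ≠ 0 → hermForm 6 F 2 v v = 0 → π ((lift v * ζ) * (lift v * ζ)) = 1 := by
      intro v h0 hv
      rw [map_mul, map_mul, hζ1, mul_one, (hlift v h0 hv).2, tau_mul_self hF hv]
    have hcst : ∀ v : Fin 6 → F, v ≠ 0 → hermForm 6 F 2 v v = 0 →
        (lift v * ζ) * (lift v * ζ) = (lift v0 * ζ) * (lift v0 * ζ) := by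
      intro v h0 hv
      obtain ⟨g, d, hd, hg⟩ := exists_map hF v0 v hv00 h0 hv0 hv
      obtain ⟨c, hc⟩ := hs (pr 6 F 2 g)
      have h5 := hconj c g v0 hc hv00 hv0
      rw [hg, hsmul v d hv hd] at h5
      have h6 : c * (lift v0 * ζ) * c⁻¹ = lift v * ζ := by
        rw [← h5, mul_assoc, mul_assoc, ← hζc c⁻¹]; group
      have h7 : c * ((lift v0 * ζ) * (lift v0 * ζ)) * c⁻¹ = (lift v * ζ) * (lift v * ζ) := by
        rw [← h6]; group
      rw [← h7, hcen _ (hπ v0 hv00 hv0) c, mul_inv_cancel_right]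
    obtain ⟨a, b, hL⟩ : ∃ a b, Line a b := by
      obtain ⟨a, b, ha0, hb0, ha, hb, hab, hne⟩ := exists_line hF
      exact ⟨a, b, ha0, hb0, ha, hb, hab, hne⟩
    have h1 := hline a b hL
    have hz := hpt a b hL
    have hcc := hptc a b hL
    have hs5 : ∀ x y : K, Commute x y → Commute (x * ζ) (y * ζ) := by
      intro x y hxy
      have hz1 : ∀ w : K, Commute w ζ := fun w => hζc w
      exact ((hxy.mul_right (hz1 x))).mul_left ((hz1 y).symm.mul_right (Commute.refl ζ))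
    have z1 := hz 1
    rw [one_smul] at z1
    have l5 := sq_prod ((lift v0 * ζ) * (lift v0 * ζ)) [lift a * ζ, lift b * ζ, lift (a + b) * ζ,
      lift (ω₀ • a + b) * ζ, lift (ω₀ ^ 2 • a + b) * ζ] ?_ ?_ (hcen _ (hπ v0 hv00 hv0))
    · simp only [List.prod_cons, List.prod_nil, mul_one, List.length_cons, List.length_nil, zero_add] at l5
      have h8 : lift a * ζ * (lift b * ζ * (lift (a + b) * ζ * (lift (ω₀ • a + b) * ζ *
          (lift (ω₀ ^ 2 • a + b) * ζ)))) = 1 := by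
        rw [← h1]; group
      rw [h8, mul_one] at l5
      have h9 : (⟨_, hπ v0 hv00 hv0⟩ : π.ker) = 1 :=
        eq_one_of_pow hp (n := 5) (by decide) (Subtype.ext (by
          rw [Subgroup.coe_pow]; exact l5.symm))
      intro v h0 hv
      rw [hcst v h0 hv]
      exact congrArg Subtype.val h9
    · obtain ⟨ha0, hb0, ha, hb, hab, hne⟩ := hL
      have hab' : ∀ c : F, hermForm 6 F 2 a (c • a + b) = 0 := fun c => by
        rw [herm_add_right hF, herm_smul_right, ha, hab]; ring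
      have hbb' : ∀ c : F, hermForm 6 F 2 b (c • a + b) = 0 := fun c => by
        rw [herm_add_right hF, herm_smul_right, hb, herm_eq_zero_swap hF hab]; ring
      have ca : ∀ c : F, Commute (lift a) (lift (c • a + b)) := fun c =>
        hcommL _ _ ha0 (hz c).1 ha (hz c).2 (hab' c)
      have cb : ∀ c : F, Commute (lift b) (lift (c • a + b)) := fun c =>
        hcommL _ _ hb0 (hz c).1 hb (hz c).2 (hbb' c)
      have ca1 := ca 1
      have cb1 := cb 1
      have c1 := hcc 1 ω₀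
      have c2 := hcc 1 (ω₀ ^ 2)
      rw [one_smul] at ca1 cb1 c1 c2
      simp only [List.pairwise_cons, List.mem_cons, List.not_mem_nil, or_false, forall_eq_or_imp,
        forall_eq]
      refine ⟨⟨hs5 _ _ (hcommL _ _ ha0 hb0 ha hb hab), hs5 _ _ ca1, hs5 _ _ (ca _), hs5 _ _ (ca _)⟩,
        ⟨hs5 _ _ cb1, hs5 _ _ (cb _), hs5 _ _ (cb _)⟩, ⟨hs5 _ _ c1, hs5 _ _ c2⟩,
        hs5 _ _ (hcc _ _), by simp, List.Pairwise.nil⟩
    · intro x hx
      obtain ⟨ha0, hb0, ha, hb, hab, hne⟩ := hL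
      simp only [List.mem_cons, List.not_mem_nil, or_false] at hx
      rcases hx with rfl | rfl | rfl | rfl | rfl
      · exact hcst _ ha0 ha
      · exact hcst _ hb0 hb
      · exact hcst _ z1.1 z1.2
      · exact hcst _ (hz _).1 (hz _).2
      · exact hcst _ (hz _).1 (hz _).2
  refine ⟨fun v => if v ≠ 0 ∧ hermForm 6 F 2 v v = 0 then lift v * ζ else 1, hs, hcen, ?_, ?_, ?_, ?_, ?_, ?_⟩
  · intro v hv
    by_cases h0 : v = 0
    · rw [if_neg (fun h => h.1 h0), h0, map_one, Cfsg.Agent.ClassicalGeometry.UnitAutBasic.tau_zero]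
    · rw [if_pos ⟨h0, hv⟩, map_mul, hζ1, mul_one, (hlift v h0 hv).2]
  · intro c g v hv hc
    by_cases h0 : v = 0
    · rw [if_neg (fun h => h.1 h0), h0, act_zero, if_neg (fun h => h.1 rfl)]; group
    · rw [if_pos ⟨h0, hv⟩, if_pos ⟨act_ne_zero h0, by rw [herm_act, hv]⟩, ← hconj c g v hc h0 hv,
        mul_assoc, mul_assoc, ← hζc c⁻¹]
      group
  · exact if_neg (fun h => h.1 rfl)
  · intro a v ha hv
    by_cases h0 : v = 0
    · rw [h0, smul_zero]
    · rw [if_pos ⟨smul_ne_zero ha h0, herm_smul_self hF hv a⟩, if_pos ⟨h0, hv⟩, hsmul v a hv ha]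
  · intro v hv
    by_cases h0 : v = 0
    · rw [if_neg (fun h => h.1 h0), mul_one]
    · rw [if_pos ⟨h0, hv⟩]
      exact hsq v h0 hv
  · intro a b ω ha hb hab hind hω
    have ha0 : a ≠ 0 := by
      rintro rfl
      exact one_ne_zero (hind 1 0 (by simp)).1
    have hb0 : b ≠ 0 := by
      rintro rfl
      exact one_ne_zero (hind 0 1 (by simp)).2
    have hne : ¬ ∃ c : F, b = c • a := by
      rintro ⟨c, rfl⟩
      have := (hind (-c) 1 (by rw [one_smul, neg_smul, neg_add_cancel])).2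
      exact one_ne_zero this
    have hL : Line a b := ⟨ha0, hb0, ha, hb, hab, hne⟩
    have hz := hpt a b hL
    have z1 := hz 1
    rw [one_smul] at z1
    rw [if_pos ⟨ha0, ha⟩, if_pos ⟨hb0, hb⟩, if_pos z1, if_pos (hz _), if_pos (hz _)]
    have hcase : ω = ω₀ ∨ ω = ω₀ ^ 2 := by
      have : (ω - ω₀) * (ω - ω₀ ^ 2) = 0 := by
        linear_combination hω - ω * hω₀ + hω3
      rcases mul_eq_zero.1 this with h5 | h5
      · left; linear_combination h5
      · right; linear_combination h5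
    have h1 := hline a b hL
    rcases hcase with rfl | rfl
    · exact h1
    · have e4 : (ω₀ ^ 2) ^ 2 = ω₀ := by linear_combination ω₀ * hω3
      rw [e4]
      have hs5 : ∀ x y : K, Commute x y → Commute (x * ζ) (y * ζ) := by
        intro x y hxy
        have hz1 : ∀ w : K, Commute w ζ := fun w => hζc w
        exact ((hxy.mul_right (hz1 x))).mul_left ((hz1 y).symm.mul_right (Commute.refl ζ))
      rw [mul_assoc _ (lift (ω₀ ^ 2 • a + b) * ζ), (hs5 _ _ (hptc a b hL (ω₀ ^ 2) ω₀)).eq, ← mul_assoc]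
      exact h1

end Cfsg.Agent.OddHalf.D9.RankTwo.LamK

end

-- merged: Cfsg.Agent.OddHalf.D9.RankTwo.LamOval
section

/-!
# The products over the hyperovals of a totally isotropic plane (helper103)

`ov lam ω t u v w` is the product of the lifts of the six transvections of the hyperoval
`u, v, w, u + ω^i v + t ω^{2i} w`. It is in the kernel, has square one, does not depend on the frame up to
multiplying `t` by a scalar, the product of the three values `t ∈ μ₃` is one, and the kernel is generated by the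
values (`ker_eq`): the 2-part of the multiplier of `PSU 6 F 2` is elementary abelian of order at most four.
-/

set_option autoImplicit false
set_option linter.unusedSectionVars false

namespace Cfsg.Agent.OddHalf.D9.RankTwo.LamOval

open Cfsg Cfsg.Agent.LieClassical.HermBasic Cfsg.Agent.ClassicalGeometry.UnitTransv
open Cfsg.Agent.SporadicStructure.UnitTwo
open Cfsg.Agent.R01.Lifts Cfsg.Agent.R01.PSUSix Cfsg.Agent.R01.InvForm
open Cfsg.Agent.ClassicalGeometry.UnitAutBasic (tau pr pr_surjective)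
open Cfsg.Agent.OddHalf.D9.RankTwo.LamK

universe u

variable {F : Type*} [Field F] [Fintype F] {hF : Fintype.card F = 2 ^ 2}
variable {K : Type u} [Group K] {π : K →* PSU 6 F 2} {lam : (Fin 6 → F) → K}

theorem conj_lam (S : Sys hF π lam) {x y : Fin 6 → F} (hx : hermForm 6 F 2 x x = 0)
    (hy : hermForm 6 F 2 y y = 0) :
    lam x * lam y * (lam x)⁻¹ = lam (y + hermForm 6 F 2 y x • x) := by
  have h1 := S.conj (lam x) (T hF x hx) y hy (by rw [S.pi x hx, tau_eq_pr hF hx])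
  rwa [act_T] at h1

theorem comm_lam (S : Sys hF π lam) {x y : Fin 6 → F} (hx : hermForm 6 F 2 x x = 0)
    (hy : hermForm 6 F 2 y y = 0) (h : hermForm 6 F 2 y x = 0) : lam x * lam y = lam y * lam x := by
  have h1 := conj_lam S hx hy
  rwa [h, zero_smul, add_zero, mul_inv_eq_iff_eq_mul] at h1

theorem iso3 (hF : Fintype.card F = 2 ^ 2) {u v w : Fin 6 → F} (h : Fr3 u v w) (a b c a' b' c' : F) :
    hermForm 6 F 2 (a • u + b • v + c • w) (a' • u + b' • v + c' • w) = 0 := by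
  have hvu := herm_eq_zero_swap hF h.uv
  have hwu := herm_eq_zero_swap hF h.uw
  have hwv := herm_eq_zero_swap hF h.vw
  simp only [herm_add_left, herm_add_right hF, herm_smul_left, herm_smul_right, h.uu, h.vv, h.ww,
    h.uv, h.uw, h.vw, hvu, hwu, hwv, mul_zero, add_zero]

/-- A commutative model of the lifts of a totally isotropic plane. -/
theorem exists_model (S : Sys hF π lam) {u v w : Fin 6 → F} (h : Fr3 u v w) :
    ∃ (A : Type u) (_ : CommGroup A) (ι : A →* K) (p : F → F → F → A), Function.Injective ι ∧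
      (∀ a b c, ι (p a b c) = lam (a • u + b • v + c • w)) ∧
      (∀ a b c, p a b c * p a b c = 1) ∧
      (∀ k a b c, k ≠ 0 → p (k * a) (k * b) (k * c) = p a b c) ∧
      (∀ ω : F, ω ^ 2 + ω + 1 = 0 → ∀ a b c a' b' c',
        (∀ r s : F, r * a + s * a' = 0 → r * b + s * b' = 0 → r * c + s * c' = 0 → r = 0 ∧ s = 0) →
        p a b c * p a' b' c' * p (a + a') (b + b') (c + c') *
          p (ω * a + a') (ω * b + b') (ω * c + c') *
          p (ω ^ 2 * a + a') (ω ^ 2 * b + b') (ω ^ 2 * c + c') = 1) := by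
  set P : Set K := {x | ∃ a b c : F, x = lam (a • u + b • v + c • w)} with hP
  have hPc : ∀ x ∈ P, ∀ y ∈ P, x * y = y * x := by
    rintro _ ⟨a, b, c, rfl⟩ _ ⟨a', b', c', rfl⟩
    exact comm_lam S (iso3 hF h _ _ _ _ _ _) (iso3 hF h _ _ _ _ _ _) (iso3 hF h _ _ _ _ _ _)
  obtain ⟨A, iA, ι, hι, hk⟩ := Cfsg.Agent.R01.BaerSplit.comm_lift P hPc
  have hk' : ∀ a b c : F, ∃ k, ι k = lam (a • u + b • v + c • w) := fun a b c => hk _ ⟨a, b, c, rfl⟩
  choose p hp using hk'
  refine ⟨A, iA, ι, p, hι, hp, ?_, ?_, ?_⟩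
  · intro a b c
    apply hι
    rw [map_mul, hp, map_one, S.sq _ (iso3 hF h _ _ _ _ _ _)]
  · intro k a b c hk0
    apply hι
    rw [hp, hp, ← S.smul k (a • u + b • v + c • w) hk0 (iso3 hF h _ _ _ _ _ _)]
    congr 1
    module
  · intro ω hω a b c a' b' c' hind
    apply hι
    rw [map_mul, map_mul, map_mul, map_mul, hp, hp, hp, hp, hp, map_one]
    have h1 := S.line (a • u + b • v + c • w) (a' • u + b' • v + c' • w) ω (iso3 hF h _ _ _ _ _ _)
      (iso3 hF h _ _ _ _ _ _) (iso3 hF h _ _ _ _ _ _) ?_ hω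
    · rw [show (a + a') • u + (b + b') • v + (c + c') • w =
          a • u + b • v + c • w + (a' • u + b' • v + c' • w) by module,
        show (ω * a + a') • u + (ω * b + b') • v + (ω * c + c') • w =
          ω • (a • u + b • v + c • w) + (a' • u + b' • v + c' • w) by module,
        show (ω ^ 2 * a + a') • u + (ω ^ 2 * b + b') • v + (ω ^ 2 * c + c') • w =
          ω ^ 2 • (a • u + b • v + c • w) + (a' • u + b' • v + c' • w) by module]
      exact h1
    · intro r s hrs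
      have h2 := h.ind (r * a + s * a') (r * b + s * b') (r * c + s * c') (by
        rw [← hrs]; module)
      exact hind r s h2.1 h2.2.1 h2.2.2

/-- the product over a hyperoval -/
def ov (lam : (Fin 6 → F) → K) (ω t : F) (u v w : Fin 6 → F) : K :=
  lam u * lam v * lam w * lam (u + v + t • w) * lam (u + ω • v + (t * ω ^ 2) • w) *
    lam (u + ω ^ 2 • v + (t * ω) • w)

/-- the product over a Baer subplane -/
def ba (lam : (Fin 6 → F) → K) (u v w : Fin 6 → F) : K :=
  lam u * lam v * lam w * lam (u + v) * lam (u + w) * lam (v + w) * lam (u + v + w)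

section Model

variable {A : Type*} [CommGroup A] (p : F → F → F → A)

/-- the hyperoval in the model -/
def mo (ω t : F) : A := p 1 0 0 * p 0 1 0 * p 0 0 1 * p 1 1 t * p 1 ω (t * ω ^ 2) * p 1 (ω ^ 2) (t * ω)

end Model

theorem e_uvw (u v w : Fin 6 → F) : (1 : F) • u + (0 : F) • v + (0 : F) • w = u ∧
    (0 : F) • u + (1 : F) • v + (0 : F) • w = v ∧ (0 : F) • u + (0 : F) • v + (1 : F) • w = w := by
  refine ⟨?_, ?_, ?_⟩ <;> module

theorem ov_model {u v w : Fin 6 → F} {A : Type*} [CommGroup A] {ι : A →* K} {p : F → F → F → A}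
    (hp : ∀ a b c, ι (p a b c) = lam (a • u + b • v + c • w)) (ω t : F) :
    ov lam ω t u v w = ι (mo p ω t) := by
  obtain ⟨e1, e2, e3⟩ := e_uvw u v w
  rw [mo, map_mul, map_mul, map_mul, map_mul, map_mul, hp, hp, hp, hp, hp, hp, e1, e2, e3, one_smul,
    one_smul]
  rfl

/-- the product of the three values is one -/
theorem ov_prod (S : Sys hF π lam) {u v w : Fin 6 → F} (h : Fr3 u v w) {ω : F} (hω : ω ^ 2 + ω + 1 = 0) :
    ov lam ω 1 u v w * ov lam ω ω u v w * ov lam ω (ω ^ 2) u v w = 1 := by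
  obtain ⟨A, iA, ι, p, hι, hp, hsq, hsm, hl⟩ := exists_model S h
  rw [ov_model hp, ov_model hp, ov_model hp, ← map_mul, ← map_mul, ← map_one ι]
  congr 1
  have h2 := two_eq_zero hF
  have h3 : ω ^ 3 = 1 := omega_cubed hω
  have h4 : ω ^ 4 = ω := by linear_combination ω * h3
  have hw0 : ω ≠ 0 := by rintro rfl; simp at hω
  have hw20 : ω ^ 2 ≠ 0 := pow_ne_zero 2 hw0
  -- the four lines
  have l0 := hl ω hω 0 1 0 0 0 1 (fun r s _ h1 h2 => by simpa using And.intro h1 h2)
  have l1 : ∀ c : F, p 1 0 0 * p 0 1 c * p 1 1 c * p ω 1 c * p (ω ^ 2) 1 c = 1 := by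
    intro c
    have := hl ω hω 1 0 0 0 1 c (fun r s h1 h2 _ => by simpa using And.intro h1 h2)
    simpa using this
  have s1 : ∀ c, p ω 1 c = p 1 (ω ^ 2) (ω ^ 2 * c) := by
    intro c
    rw [← hsm (ω ^ 2) ω 1 c hw20]
    congr 1
    · linear_combination h3
    · ring
  have s2 : ∀ c, p (ω ^ 2) 1 c = p 1 ω (ω * c) := by
    intro c
    rw [← hsm ω (ω ^ 2) 1 c hw0]
    congr 1
    · linear_combination h3
    · ring
  have m1 := l1 1
  have m2 := l1 ω
  have m3 := l1 (ω ^ 2)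
  rw [s1, s2] at m1 m2 m3
  have s3 : p 0 ω 1 = p 0 1 (ω ^ 2) := by
    rw [← hsm (ω ^ 2) 0 ω 1 hw20]
    congr 1
    · ring
    · linear_combination h3
    · ring
  have s4 : p 0 (ω ^ 2) 1 = p 0 1 ω := by
    rw [← hsm ω 0 (ω ^ 2) 1 hw0]
    congr 1
    · ring
    · linear_combination h3
    · ring
  simp only [mul_one, mul_zero, add_zero, zero_add] at l0 m1 m2 m3
  rw [s3, s4] at l0
  rw [show ω ^ 2 * ω = 1 by linear_combination h3, show ω * ω = ω ^ 2 by ring] at m2
  rw [show ω ^ 2 * ω ^ 2 = ω by linear_combination h4, show ω * ω ^ 2 = 1 by linear_combination h3] at m3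
  simp only [mo]
  rw [show (1 : F) * ω ^ 2 = ω ^ 2 by ring, show (1 : F) * ω = ω by ring, show ω * ω ^ 2 = 1 by linear_combination h3,
    show ω * ω = ω ^ 2 by ring, show ω ^ 2 * ω ^ 2 = ω by linear_combination h4,
    show ω ^ 2 * ω = 1 by linear_combination h3]
  have q1 := hsq 0 1 1
  have q2 := hsq 0 1 ω
  have q3 := hsq 0 1 (ω ^ 2)
  have q4 := hsq 0 1 0
  have q5 := hsq 0 0 1
  generalize p 1 0 0 = a at *
  generalize p 0 1 0 = b at *
  generalize p 0 0 1 = c at *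
  generalize p 0 1 1 = x1 at *
  generalize p 0 1 ω = x2 at *
  generalize p 0 1 (ω ^ 2) = x3 at *
  generalize p 1 1 1 = y1 at *
  generalize p 1 1 ω = y2 at *
  generalize p 1 1 (ω ^ 2) = y3 at *
  generalize p 1 ω 1 = z1 at *
  generalize p 1 ω ω = z2 at *
  generalize p 1 ω (ω ^ 2) = z3 at *
  generalize p 1 (ω ^ 2) 1 = t1 at *
  generalize p 1 (ω ^ 2) ω = t2 at *
  generalize p 1 (ω ^ 2) (ω ^ 2) = t3 at *
  clear hsq hsm hl l1 s1 s2 s3 s4 hp
  calc a * b * c * y1 * z3 * t2 * (a * b * c * y2 * z1 * t3) * (a * b * c * y3 * z2 * t1)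
      = a * b * c * y1 * z3 * t2 * (a * b * c * y2 * z1 * t3) * (a * b * c * y3 * z2 * t1) *
        ((x1 * x1) * (x2 * x2) * (x3 * x3)) := by rw [q1, q2, q3, mul_one, mul_one, mul_one]
    _ = (a * x1 * y1 * t3 * z2) * (a * x2 * y2 * t1 * z3) * (a * x3 * y3 * t2 * z1) *
        (b * c * x1 * x3 * x2) * ((b * b) * (c * c)) := by ac_rfl
    _ = 1 := by rw [m1, m2, m3, l0, q4, q5]; simp only [mul_one]

/-- the product over a Baer subplane is the product over a hyperoval -/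
theorem ba_eq (S : Sys hF π lam) {u v w : Fin 6 → F} (h : Fr3 u v w) {ω : F} (hω : ω ^ 2 + ω + 1 = 0) :
    ba lam u v w = ov lam ω 1 u v w := by
  obtain ⟨A, iA, ι, p, hι, hp, hsq, hsm, hl⟩ := exists_model S h
  have h2 := two_eq_zero hF
  have h3 : ω ^ 3 = 1 := omega_cubed hω
  have hw0 : ω ≠ 0 := by rintro rfl; simp at hω
  have hw20 : ω ^ 2 ≠ 0 := pow_ne_zero 2 hw0
  obtain ⟨e1, e2, e3⟩ := e_uvw u v w
  have e4 : ba lam u v w = ι (p 1 0 0 * p 0 1 0 * p 0 0 1 * p 1 1 0 * p 1 0 1 * p 0 1 1 * p 1 1 1) := by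
    simp only [map_mul, hp, ba]
    rw [e1, e2, e3, show (1 : F) • u + (1 : F) • v + (0 : F) • w = u + v by module,
      show (1 : F) • u + (0 : F) • v + (1 : F) • w = u + w by module,
      show (0 : F) • u + (1 : F) • v + (1 : F) • w = v + w by module,
      show (1 : F) • u + (1 : F) • v + (1 : F) • w = u + v + w by module]
  rw [e4, ov_model hp]
  congr 1
  have l0 := hl ω hω 1 1 0 1 0 1 (fun r s h1 h2 h5 => by
    constructor
    · simpa using h2
    · simpa using h5)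
  simp only [mul_one, mul_zero, add_zero, zero_add] at l0
  rw [show (1 : F) + 1 = 0 by linear_combination h2, show ω + 1 = ω ^ 2 by linear_combination hω - ω ^ 2 * h2] at l0
  have s1 : p (ω ^ 2) ω 1 = p 1 (ω ^ 2) ω := by
    rw [← hsm ω (ω ^ 2) ω 1 hw0]
    congr 1
    · linear_combination h3
    · ring
    · ring
  have s2 : p (ω ^ 2 + 1) (ω ^ 2) 1 = p 1 ω (ω ^ 2) := by
    rw [← hsm (ω ^ 2) (ω ^ 2 + 1) (ω ^ 2) 1 hw20]
    congr 1
    · linear_combination ω * h3 + hω - h2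
    · linear_combination ω * h3
    · ring
  rw [s1, s2] at l0
  simp only [mo]
  rw [show (1 : F) * ω ^ 2 = ω ^ 2 by ring, show (1 : F) * ω = ω by ring]
  have q1 := hsq 1 (ω ^ 2) ω
  have q2 := hsq 1 ω (ω ^ 2)
  generalize p 1 0 0 = a at *
  generalize p 0 1 0 = b at *
  generalize p 0 0 1 = c at *
  generalize p 0 1 1 = x1 at *
  generalize p 1 1 1 = y1 at *
  generalize p 1 1 0 = y2 at *
  generalize p 1 0 1 = y3 at *
  generalize p 1 ω (ω ^ 2) = z3 at *
  generalize p 1 (ω ^ 2) ω = t2 at *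
  calc a * b * c * y2 * y3 * x1 * y1 = a * b * c * y2 * y3 * x1 * y1 * ((t2 * t2) * (z3 * z3)) := by
        rw [q1, q2, mul_one, mul_one]
    _ = (a * b * c * y1 * z3 * t2) * (y2 * y3 * x1 * t2 * z3) := by ac_rfl
    _ = a * b * c * y1 * z3 * t2 := by rw [l0, mul_one]

/-- scaling the frame -/
theorem ov_smul (S : Sys hF π lam) {u v w : Fin 6 → F} (h : Fr3 u v w) {ω : F} (hω : ω ^ 2 + ω + 1 = 0)
    {a b c : F} (ha : a ≠ 0) (hb : b ≠ 0) (hc : c ≠ 0) (t : F) :
    ov lam ω t (a • u) (b • v) (c • w) = ov lam ω (t * (a * b * c)) u v w := by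
  obtain ⟨A, iA, ι, p, hι, hp, hsq, hsm, hl⟩ := exists_model S h
  have h2 := two_eq_zero hF
  have h3 : ω ^ 3 = 1 := omega_cubed hω
  have h4 : ω ^ 4 = ω := by linear_combination ω * h3
  have hw0 : ω ≠ 0 := by rintro rfl; simp at hω
  have ha3 : a ^ 3 = 1 := pow_three hF ha
  have e4 : ov lam ω t (a • u) (b • v) (c • w) = ι (p a 0 0 * p 0 b 0 * p 0 0 c * p a b (t * c) *
      p a (ω * b) (t * ω ^ 2 * c) * p a (ω ^ 2 * b) (t * ω * c)) := by
    simp only [map_mul, hp, ov]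
    rw [show a • u + (0 : F) • v + (0 : F) • w = a • u by module,
      show (0 : F) • u + b • v + (0 : F) • w = b • v by module,
      show (0 : F) • u + (0 : F) • v + c • w = c • w by module]
    simp only [smul_smul]
  rw [e4, ov_model hp]
  congr 1
  have n1 : p a 0 0 = p 1 0 0 := by
    rw [← hsm a 1 0 0 ha]; simp only [mul_one, mul_zero]
  have n2 : p 0 b 0 = p 0 1 0 := by
    rw [← hsm b 0 1 0 hb]; simp only [mul_one, mul_zero]
  have n3 : p 0 0 c = p 0 0 1 := by
    rw [← hsm c 0 0 1 hc]; simp only [mul_one, mul_zero]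
  rw [n1, n2, n3]
  clear n1 n2 n3 e4
  simp only [mo]
  -- `β = b / a`, `γ = c / a`
  obtain ⟨β, hβ0, rfl⟩ : ∃ β, β ≠ 0 ∧ b = a * β :=
    ⟨a⁻¹ * b, mul_ne_zero (inv_ne_zero ha) hb, by rw [mul_inv_cancel_left₀ ha]⟩
  obtain ⟨γ, rfl⟩ : ∃ γ, c = a * γ := ⟨a⁻¹ * c, by rw [mul_inv_cancel_left₀ ha]⟩
  have n4 : ∀ x y : F, p a (a * x) (a * y) = p 1 x y := by
    intro x y
    rw [← hsm a 1 x y ha, mul_one]
  have et : t * (a * (a * β) * (a * γ)) = t * (β * γ) := by linear_combination (t * β * γ) * ha3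
  rw [et, show t * (a * γ) = a * (t * γ) by ring, show ω * (a * β) = a * (ω * β) by ring,
    show t * ω ^ 2 * (a * γ) = a * (t * ω ^ 2 * γ) by ring, show ω ^ 2 * (a * β) = a * (ω ^ 2 * β) by ring,
    show t * ω * (a * γ) = a * (t * ω * γ) by ring, n4, n4, n4]
  have hβ : β = 1 ∨ β = ω ∨ β = ω ^ 2 := by
    have h5 := pow_three hF hβ0
    have : (β - 1) * ((β - ω) * (β - ω ^ 2)) = 0 := by
      linear_combination h5 + (β - β ^ 2) * hω + (β - 1) * h3
    rcases mul_eq_zero.1 this with h5 | h5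
    · left; linear_combination h5
    · rcases mul_eq_zero.1 h5 with h5 | h5
      · right; left; linear_combination h5
      · right; right; linear_combination h5
  rcases hβ with rfl | rfl | rfl
  · rw [mul_one, mul_one, show t * ω ^ 2 * γ = t * (1 * γ) * ω ^ 2 by ring,
      show t * ω * γ = t * (1 * γ) * ω by ring, one_mul]
  · rw [show β * β = β ^ 2 by ring, show β ^ 2 * β = 1 by linear_combination h3,
      show t * (β * γ) * β ^ 2 = t * γ by linear_combination (t * γ) * h3,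
      show t * (β * γ) * β = t * β ^ 2 * γ by ring, show t * (β * γ) = t * β * γ by ring]
    ac_rfl
  · rw [show ω * ω ^ 2 = 1 by linear_combination h3, show ω ^ 2 * ω ^ 2 = ω by linear_combination h4,
      show t * (ω ^ 2 * γ) * ω ^ 2 = t * ω * γ by linear_combination (t * γ) * h4,
      show t * (ω ^ 2 * γ) * ω = t * γ by linear_combination (t * γ) * h3,
      show t * (ω ^ 2 * γ) = t * ω ^ 2 * γ by ring]
    ac_rfl

/-- conjugation -/
theorem conj_ov (S : Sys hF π lam) {u v w : Fin 6 → F} (h : Fr3 u v w) (ω t : F) {k : K} {g : SU 6 F 2}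
    (hk : π k = pr 6 F 2 g) :
    k * ov lam ω t u v w * k⁻¹ = ov lam ω t (act g u) (act g v) (act g w) := by
  have i1 : hermForm 6 F 2 (u + v + t • w) (u + v + t • w) = 0 := by
    simpa using iso3 hF h 1 1 t 1 1 t
  have i2 : hermForm 6 F 2 (u + ω • v + (t * ω ^ 2) • w) (u + ω • v + (t * ω ^ 2) • w) = 0 := by
    simpa using iso3 hF h 1 ω (t * ω ^ 2) 1 ω (t * ω ^ 2)
  have i3 : hermForm 6 F 2 (u + ω ^ 2 • v + (t * ω) • w) (u + ω ^ 2 • v + (t * ω) • w) = 0 := by
    simpa using iso3 hF h 1 (ω ^ 2) (t * ω) 1 (ω ^ 2) (t * ω)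
  have e1 := S.conj k g u h.uu hk
  have e2 := S.conj k g v h.vv hk
  have e3 := S.conj k g w h.ww hk
  have e4 := S.conj k g _ i1 hk
  have e5 := S.conj k g _ i2 hk
  have e6 := S.conj k g _ i3 hk
  simp only [act_add, act_smul] at e4 e5 e6
  rw [ov, ov, ← e1, ← e2, ← e3, ← e4, ← e5, ← e6]
  group

/-- The product of the six transvections of a hyperoval is trivial. -/
theorem oval_T {u v w : Fin 6 → F} (h : Fr3 u v w) {ω : F} (hω : ω ^ 2 + ω + 1 = 0) {t : F}
    (ht : t ^ 3 = 1) (h1 : hermForm 6 F 2 (u + v + t • w) (u + v + t • w) = 0)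
    (h2 : hermForm 6 F 2 (u + ω • v + (t * ω ^ 2) • w) (u + ω • v + (t * ω ^ 2) • w) = 0)
    (h3 : hermForm 6 F 2 (u + ω ^ 2 • v + (t * ω) • w) (u + ω ^ 2 • v + (t * ω) • w) = 0) :
    T hF u h.uu * T hF v h.vv * T hF w h.ww * T hF (u + v + t • w) h1 *
      T hF (u + ω • v + (t * ω ^ 2) • w) h2 * T hF (u + ω ^ 2 • v + (t * ω) • w) h3 = 1 := by
  have hvu := herm_eq_zero_swap hF h.uv
  have hwu := herm_eq_zero_swap hF h.uw
  have hwv := herm_eq_zero_swap hF h.vw
  have hw3 : ω ^ 3 = 1 := omega_cubed hω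
  have h2 := two_eq_zero hF
  apply ext_act
  intro x
  simp only [act_mul, act_one, act_T, herm_add_left, herm_smul_left, herm_add_right hF,
    herm_smul_right, h.uu, h.vv, h.ww, h.uv, hvu, h.uw, hwu, h.vw, hwv, mul_zero, add_zero]
  funext i
  simp only [Pi.add_apply, Pi.smul_apply, smul_eq_mul]
  generalize hermForm 6 F 2 x u = p
  generalize hermForm 6 F 2 x v = q
  generalize hermForm 6 F 2 x w = r
  generalize u i = a
  generalize v i = b
  generalize w i = c
  linear_combination (p * a * 2) * h2 + (p * b + p * c * t) * hω + (q * a * ω) * hw3 + q * a * hω +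
    (q * b * (ω ^ 3 + 2)) * hw3 + (q * b * 2) * h2 + (q * c * t * (ω ^ 2 + ω)) * hw3 +
    (q * c * t) * hω + (r * a * t ^ 2 * ω) * hw3 + (r * a * t ^ 2) * hω +
    (r * b * t ^ 2 * (ω ^ 2 + ω)) * hw3 + (r * b * t ^ 2) * hω +
    (r * c * t ^ 3 * (ω ^ 3 + 2)) * hw3 + (3 * r * c) * ht + (r * c * 2) * h2

/-- the product over a hyperoval is in the kernel -/
theorem pi_ov (S : Sys hF π lam) {u v w : Fin 6 → F} (h : Fr3 u v w) {ω : F} (hω : ω ^ 2 + ω + 1 = 0)
    {t : F} (ht : t ^ 3 = 1) : π (ov lam ω t u v w) = 1 := by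
  have h1 : hermForm 6 F 2 (u + v + t • w) (u + v + t • w) = 0 := by
    simpa using iso3 hF h 1 1 t 1 1 t
  have h2 : hermForm 6 F 2 (u + ω • v + (t * ω ^ 2) • w) (u + ω • v + (t * ω ^ 2) • w) = 0 := by
    simpa using iso3 hF h 1 ω (t * ω ^ 2) 1 ω (t * ω ^ 2)
  have h3 : hermForm 6 F 2 (u + ω ^ 2 • v + (t * ω) • w) (u + ω ^ 2 • v + (t * ω) • w) = 0 := by
    simpa using iso3 hF h 1 (ω ^ 2) (t * ω) 1 (ω ^ 2) (t * ω)
  rw [ov, map_mul, map_mul, map_mul, map_mul, map_mul, S.pi u h.uu, S.pi v h.vv,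
    S.pi w h.ww, S.pi _ h1, S.pi _ h2, S.pi _ h3,
    tau_eq_pr hF h.uu, tau_eq_pr hF h.vv, tau_eq_pr hF h.ww,
    tau_eq_pr hF h1, tau_eq_pr hF h2, tau_eq_pr hF h3, ← map_mul, ← map_mul,
    ← map_mul, ← map_mul, ← map_mul, oval_T h hω ht h1 h2 h3, map_one]

/-- the square of the product over a hyperoval -/
theorem sq_ov (S : Sys hF π lam) {u v w : Fin 6 → F} (h : Fr3 u v w) (ω t : F) :
    ov lam ω t u v w * ov lam ω t u v w = 1 := by
  obtain ⟨A, iA, ι, p, hι, hp, hsq, -, -⟩ := exists_model S h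
  rw [ov_model hp, ← map_mul, ← map_one ι]
  congr 1
  simp only [mo]
  have q1 := hsq 1 0 0
  have q2 := hsq 0 1 0
  have q3 := hsq 0 0 1
  have q4 := hsq 1 1 t
  have q5 := hsq 1 ω (t * ω ^ 2)
  have q6 := hsq 1 (ω ^ 2) (t * ω)
  generalize p 1 0 0 = a at *
  generalize p 0 1 0 = b at *
  generalize p 0 0 1 = c at *
  generalize p 1 1 t = d at *
  generalize p 1 ω (t * ω ^ 2) = e at *
  generalize p 1 (ω ^ 2) (t * ω) = f at *
  calc a * b * c * d * e * f * (a * b * c * d * e * f)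
      = (a * a) * (b * b) * (c * c) * (d * d) * (e * e) * (f * f) := by ac_rfl
    _ = 1 := by rw [q1, q2, q3, q4, q5, q6]; simp only [mul_one]

/-- two frames -/
theorem ov_frames (S : Sys hF π lam) {u v w u' v' w' : Fin 6 → F} (h : Fr3 u v w) (h' : Fr3 u' v' w')
    {ω : F} (hω : ω ^ 2 + ω + 1 = 0) :
    ∃ d : F, d ≠ 0 ∧ ∀ t : F, t ^ 3 = 1 → ov lam ω t u v w = ov lam ω (t * d) u' v' w' := by
  obtain ⟨g, a, b, c, ha, hb, hc, hgu, hgv, hgw⟩ := trans_frames_SU hF h h'
  refine ⟨a * b * c, mul_ne_zero (mul_ne_zero ha hb) hc, fun t ht => ?_⟩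
  obtain ⟨k, hk⟩ := S.surj (pr 6 F 2 g)
  have h1 := conj_ov S h ω t hk
  rw [hgu, hgv, hgw, ov_smul S h' hω ha hb hc, S.cen _ (pi_ov S h hω ht), mul_inv_cancel_right] at h1
  exact h1

/-- `μ₃` -/
theorem mu_cases {ω : F} (hω : ω ^ 2 + ω + 1 = 0) {t : F} (ht : t ^ 3 = 1) : t = 1 ∨ t = ω ∨ t = ω ^ 2 := by
  have h3 : ω ^ 3 = 1 := omega_cubed hω
  have : (t - 1) * ((t - ω) * (t - ω ^ 2)) = 0 := by
    linear_combination ht + (t - t ^ 2) * hω + (t - 1) * h3
  rcases mul_eq_zero.1 this with h5 | h5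
  · left; linear_combination h5
  · rcases mul_eq_zero.1 h5 with h5 | h5
    · right; left; linear_combination h5
    · right; right; linear_combination h5

open Cfsg.Agent.KFacts.MulDef Cfsg.Agent.KFacts.OddLift.Frat Subgroup

/-- A perfect double cover below `π` in which the three products over the hyperovals are trivial does not exist. -/
theorem no_double (S : Sys hF π lam) {u v w : Fin 6 → F} (h : Fr3 u v w) {ω : F} (hω : ω ^ 2 + ω + 1 = 0)
    {L : Type u} [Group L] [Finite L] {q : K →* L} {π' : L →* PSU 6 F 2} {c : L}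
    (hq : Function.Surjective q) (hc : π'.comp q = π)
    (hk : ∀ t : F, t ^ 3 = 1 → q (ov lam ω t u v w) = 1) (hd : Dbl π' c) : False := by
  have hπ : ∀ x, π' (q x) = π x := fun x => DFunLike.congr_fun hc x
  have S' : Cfsg.Agent.R01.Lam.LamSys hF π' c (fun x => q (lam x)) :=
    { ext := ⟨hd.surj, hd.sq, hd.ne, hd.ker, fun x => (hd.cen x).symm⟩
      pi := fun x hx => by rw [hπ, S.pi x hx]
      conj := by
        intro d g x hx hdg
        obtain ⟨k, rfl⟩ := hq d
        rw [hπ] at hdg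
        rw [← map_mul, ← map_inv, ← map_mul, S.conj k g x hx hdg]
      zero := by rw [S.zero, map_one]
      smul := fun a x ha hx => by rw [S.smul a x ha hx]
      sq := fun x hx => by rw [← map_mul, S.sq x hx, map_one]
      line := fun a b ω' ha hb hab hind hω' => by
        rw [← map_mul, ← map_mul, ← map_mul, ← map_mul, S.line a b ω' ha hb hab hind hω', map_one] }
  obtain ⟨u', v', w', hu, hv, hw, huv, huw, hvw, hind, hB⟩ := Cfsg.Agent.R01.BaerSplit.exists_baer S' hd.perf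
  have h' : Fr3 u' v' w' := ⟨hu, hv, hw, huv, huw, hvw, hind⟩
  have h1 : q (ba lam u' v' w') = c := by
    rw [← hB, ba]
    simp only [map_mul]
  obtain ⟨d, hd0, hdd⟩ := ov_frames S h' h hω
  rw [ba_eq S h' hω, hdd 1 (one_pow 3), hk _ (by rw [one_mul]; exact pow_three hF hd0)] at h1
  exact hd.ne h1.symm

/-- The kernel is generated by the products over the hyperovals of one plane. -/
theorem ker_eq [Finite K] (S : Sys hF π lam) (hperf : commutator K = ⊤) (hp : IsPGroup 2 π.ker)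
    {u v w : Fin 6 → F} (h : Fr3 u v w) {ω : F} (hω : ω ^ 2 + ω + 1 = 0) {N : Subgroup K} (hN : N ≤ π.ker)
    (hk : ∀ t : F, t ^ 3 = 1 → ov lam ω t u v w ∈ N) : π.ker = N := by
  refine Cfsg.Agent.KFacts.OddLift.Frat.ker_eq hperf S.surj ?_ hp hN ?_
  · intro z hz
    rw [mem_center_iff]
    exact S.cen z hz
  · intro L _ _ q π' c hq hc hNq hd
    exact no_double S h hω hq hc (fun t ht => hNq (hk t ht)) hd

/-- the three values generate a four group -/
theorem ov_third (S : Sys hF π lam) {u v w : Fin 6 → F} (h : Fr3 u v w) {ω : F} (hω : ω ^ 2 + ω + 1 = 0) :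
    ov lam ω 1 u v w * ov lam ω ω u v w = ov lam ω (ω ^ 2) u v w ∧
      ov lam ω ω u v w * ov lam ω 1 u v w = ov lam ω (ω ^ 2) u v w := by
  have h1 := ov_prod S h hω
  have h2 := sq_ov S h ω (ω ^ 2)
  have h3 : ov lam ω 1 u v w * ov lam ω ω u v w = ov lam ω (ω ^ 2) u v w := by
    rw [eq_inv_of_mul_eq_one_left h1, inv_eq_of_mul_eq_one_left h2]
  refine ⟨h3, ?_⟩
  rw [← S.cen _ (pi_ov S h hω (t := ω) (omega_cubed hω)), h3]

/-- **The 2-part of the multiplier of `PSU 6 F 2`**: elementary abelian of order at most four. -/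
theorem card_ker [Finite K] (S : Sys hF π lam) (hperf : commutator K = ⊤) (hp : IsPGroup 2 π.ker) :
    (∀ z ∈ π.ker, z * z = 1) ∧ Nat.card π.ker ≤ 4 := by
  obtain ⟨ω, hω⟩ := exists_omega hF
  have h := fr3_std (F := F) hF
  have h3 : ω ^ 3 = 1 := omega_cubed hω
  obtain ⟨e1, e2⟩ := ov_third S h hω
  have s1 := sq_ov S h ω 1
  have s2 := sq_ov S h ω ω
  have hker : π.ker = klein s1 s2 e1 e2 := by
    apply ker_eq S hperf hp h hω
    · intro g hg
      rcases mem_klein.1 hg with rfl | rfl | rfl | rfl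
      · exact one_mem _
      · exact pi_ov S h hω (one_pow 3)
      · exact pi_ov S h hω h3
      · exact pi_ov S h hω (by rw [← pow_mul, mul_comm, pow_mul, h3, one_pow])
    · intro t ht
      rw [mem_klein]
      rcases mu_cases hω ht with rfl | rfl | rfl
      · exact Or.inr (Or.inl rfl)
      · exact Or.inr (Or.inr (Or.inl rfl))
      · exact Or.inr (Or.inr (Or.inr rfl))
  rw [hker]
  exact ⟨fun z hz => klein_sq hz, card_klein_le⟩

/-- If the kernel has order four then the three products are different. -/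
theorem ov_injective [Finite K] (S : Sys hF π lam) (hperf : commutator K = ⊤) (hp : IsPGroup 2 π.ker)
    (h4 : 2 < Nat.card π.ker) {u v w : Fin 6 → F} (h : Fr3 u v w) {ω : F} (hω : ω ^ 2 + ω + 1 = 0)
    {s t : F} (hs : s ^ 3 = 1) (ht : t ^ 3 = 1) (hst : ov lam ω s u v w = ov lam ω t u v w) : s = t := by
  by_contra hne
  have h3 : ω ^ 3 = 1 := omega_cubed hω
  obtain ⟨e1, e2⟩ := ov_third S h hω
  have s1 := sq_ov S h ω 1
  have s2 := sq_ov S h ω ω
  have s3 := sq_ov S h ω (ω ^ 2)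
  have p1 := pi_ov S h hω (one_pow 3)
  have p2 := pi_ov S h hω h3
  have p3 := pi_ov S h hω (t := ω ^ 2) (by rw [← pow_mul, mul_comm, pow_mul, h3, one_pow])
  have f1 : ov lam ω 1 u v w * ov lam ω (ω ^ 2) u v w = ov lam ω ω u v w := by
    rw [← e1, ← mul_assoc, s1, one_mul]
  have f2 : ov lam ω ω u v w * ov lam ω (ω ^ 2) u v w = ov lam ω 1 u v w := by
    rw [← e2, ← mul_assoc, s2, one_mul]
  have hall0 : ∀ P : F → Prop, P 1 → P ω → P (ω ^ 2) → ∀ t : F, t ^ 3 = 1 → P t := by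
    intro P a b c t ht
    rcases mu_cases hω ht with rfl | rfl | rfl
    · exact a
    · exact b
    · exact c
  -- all values lie in a group of order two
  obtain ⟨x, hx, hπx, hall⟩ : ∃ x : K, x * x = 1 ∧ π x = 1 ∧ ∀ t : F, t ^ 3 = 1 →
      ov lam ω t u v w = 1 ∨ ov lam ω t u v w = x := by
    have c12 : ov lam ω 1 u v w = ov lam ω ω u v w → ∃ x : K, x * x = 1 ∧ π x = 1 ∧ ∀ t : F, t ^ 3 = 1 →
        ov lam ω t u v w = 1 ∨ ov lam ω t u v w = x := fun h12 =>
      ⟨_, s2, p2, hall0 _ (Or.inr h12) (Or.inr rfl) (Or.inl (by rw [← e1, h12, s2]))⟩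
    have c13 : ov lam ω 1 u v w = ov lam ω (ω ^ 2) u v w → ∃ x : K, x * x = 1 ∧ π x = 1 ∧
        ∀ t : F, t ^ 3 = 1 → ov lam ω t u v w = 1 ∨ ov lam ω t u v w = x := fun h13 =>
      ⟨_, s3, p3, hall0 _ (Or.inr h13) (Or.inl (by rw [← f1, h13, s3])) (Or.inr rfl)⟩
    have c23 : ov lam ω ω u v w = ov lam ω (ω ^ 2) u v w → ∃ x : K, x * x = 1 ∧ π x = 1 ∧
        ∀ t : F, t ^ 3 = 1 → ov lam ω t u v w = 1 ∨ ov lam ω t u v w = x := fun h23 =>
      ⟨_, s3, p3, hall0 _ (Or.inl (by rw [← f2, h23, s3])) (Or.inr h23) (Or.inr rfl)⟩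
    rcases mu_cases hω hs with hs1 | hs1 | hs1 <;> rcases mu_cases hω ht with ht1 | ht1 | ht1 <;>
      rw [hs1, ht1] at hst
    · exact absurd (hs1.trans ht1.symm) hne
    · exact c12 hst
    · exact c13 hst
    · exact c12 hst.symm
    · exact absurd (hs1.trans ht1.symm) hne
    · exact c23 hst
    · exact c13 hst.symm
    · exact c23 hst.symm
    · exact absurd (hs1.trans ht1.symm) hne
  have hker : π.ker = zpowers x := by
    apply ker_eq S hperf hp h hω
    · rw [zpowers_le]; exact hπx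
    · intro t ht
      rcases hall t ht with h1 | h1 <;> rw [h1]
      · exact one_mem _
      · exact mem_zpowers x
  rw [hker, Nat.card_zpowers] at h4
  have := orderOf_le_of_pow_eq_one (x := x) (n := 2) (by norm_num) (by rw [pow_two, hx])
  omega

/-- The 2-part of the multiplier, for a perfect group with a central 2-subgroup. -/
theorem card_le [Finite K] (hK : commutator K = ⊤) (Z : Subgroup K) [Z.Normal] (hZ : Z ≤ center K)
    (h2 : IsPGroup 2 Z) {F : Type*} [Field F] [Fintype F] (hF : Fintype.card F = 4)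
    (e : K ⧸ Z ≃* PSU 6 F 2) : (∀ z ∈ Z, z * z = 1) ∧ Nat.card Z ≤ 4 := by
  let f : K →* PSU 6 F 2 := e.toMonoidHom.comp (QuotientGroup.mk' Z)
  have hk : f.ker = Z := by
    ext x
    rw [MonoidHom.mem_ker]
    show e (QuotientGroup.mk' Z x) = 1 ↔ _
    rw [map_eq_one_iff e e.injective]
    exact QuotientGroup.eq_one_iff x
  have hs : Function.Surjective f := e.surjective.comp (QuotientGroup.mk'_surjective Z)
  have hcen : ∀ z, f z = 1 → ∀ c : K, c * z = z * c := fun z hz =>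
    mem_center_iff.1 (hZ (by rw [← hk]; exact hz))
  have hp : IsPGroup 2 f.ker := by rw [hk]; exact h2
  obtain ⟨lam, S⟩ := exists_lamK (hF.trans (by norm_num)) hs hcen hp
  have := card_ker S hK hp
  rwa [hk] at this

end Cfsg.Agent.OddHalf.D9.RankTwo.LamOval

end

-- merged: Cfsg.Agent.OddHalf.D9.RankTwo.InnU
section

/-!
# Innerness for `2².U₆(2)` (helper103)

An automorphism of the perfect central extension `K` of `PSU 6 F 2`, `|F| = 4`, by a centre of order four, which is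
trivial on the centre, is inner: it maps the normalised lifts of the transvections to such lifts, hence preserves the
products over the hyperovals, which are different for the three classes.
-/

set_option autoImplicit false
set_option linter.unusedSectionVars false

namespace Cfsg.Agent.OddHalf.D9.RankTwo.InnU

open Cfsg Cfsg.Agent.LieClassical.HermBasic Cfsg.Agent.ClassicalGeometry.UnitTransv
open Cfsg.Agent.SporadicStructure.UnitTwo
open Cfsg.Agent.R01.PSUSix Cfsg.Agent.R01.InvForm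
open Cfsg.Agent.ClassicalGeometry.UnitAutBasic (tau pr pr_surjective c0)
open Cfsg.Agent.ClassicalGeometry.PSUAutCount (gm semiConj toAut herm_gm act_semiConj herm_semi gm_mul gm_mul_inv
  gm_inv_mulVec gm_mulVec_inv toAut_tau toAut_pr)
open Cfsg.Agent.Schreier.PSU (f₁ f₂ toAut_eq f₁_eq_conj)
open Cfsg.Agent.OddHalf.D9.RankTwo.LamK Cfsg.Agent.OddHalf.D9.RankTwo.LamOval
open Subgroup Matrix

universe u

/-! ### Generalities -/

section General

variable {K : Type u} [Group K]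

/-- the automorphism induced on the central quotient -/
theorem exists_bar {E : Type*} [Group E] {π : K →* E} (hs : Function.Surjective π) (hk : π.ker = center K)
    (φ : MulAut K) : ∃ β : MulAut E, ∀ k, β (π k) = π (φ k) := by
  have hchar : (π.ker).map φ.toMonoidHom = π.ker := by
    rw [hk]
    exact (Subgroup.characteristic_iff_map_eq.1 inferInstance) φ
  let e : K ⧸ π.ker ≃* E := QuotientGroup.quotientKerEquivOfSurjective π hs
  have he : ∀ k : K, e (QuotientGroup.mk k) = π k := fun k => rfl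
  let c : K ⧸ π.ker ≃* K ⧸ π.ker := QuotientGroup.congr π.ker π.ker φ hchar
  refine ⟨(e.symm.trans c).trans e, fun k => ?_⟩
  show e (c (e.symm (π k))) = π (φ k)
  rw [← he k, e.symm_apply_apply]
  rfl

/-- an automorphism of a perfect group inducing an inner automorphism of the central quotient is inner -/
theorem inner_of_bar (hperf : commutator K = ⊤) {E : Type*} [Group E] {π : K →* E}
    (hs : Function.Surjective π) (hk : π.ker = center K) {φ : MulAut K} {x : E}
    (h : ∀ k, π (φ k) = x * π k * x⁻¹) : ∃ k, ∀ y, φ y = k * y * k⁻¹ := by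
  obtain ⟨k, rfl⟩ := hs x
  refine ⟨k, ?_⟩
  have hz : ∀ y, y⁻¹ * (k⁻¹ * φ y * k) ∈ center K := by
    intro y
    rw [← hk, MonoidHom.mem_ker]
    simp only [map_mul, map_inv, h]
    group
  let f : K →* center K :=
    { toFun := fun y => ⟨y⁻¹ * (k⁻¹ * φ y * k), hz y⟩
      map_one' := Subtype.ext (by show (1 : K)⁻¹ * (k⁻¹ * φ 1 * k) = 1; rw [map_one]; group)
      map_mul' := by
        intro a b
        apply Subtype.ext
        show (a * b)⁻¹ * (k⁻¹ * φ (a * b) * k) = a⁻¹ * (k⁻¹ * φ a * k) * (b⁻¹ * (k⁻¹ * φ b * k))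
        rw [map_mul]
        have h1 := mem_center_iff.1 (hz a) b⁻¹
        calc (a * b)⁻¹ * (k⁻¹ * (φ a * φ b) * k)
            = b⁻¹ * (a⁻¹ * (k⁻¹ * φ a * k)) * (k⁻¹ * φ b * k) := by group
          _ = (a⁻¹ * (k⁻¹ * φ a * k)) * b⁻¹ * (k⁻¹ * φ b * k) := by rw [h1]
          _ = _ := by group }
  have hf : (⊤ : Subgroup K) ≤ f.ker := by
    rw [← hperf, commutator_def, commutator_le]
    intro a _ b _
    rw [MonoidHom.mem_ker, map_commutatorElement, commutatorElement_eq_one_iff_mul_comm]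
    apply Subtype.ext
    exact (mem_center_iff.1 (f b).2 (f a : K))
  intro y
  have h1 : f y = 1 := MonoidHom.mem_ker.1 (hf (mem_top y))
  have h2 : y⁻¹ * (k⁻¹ * φ y * k) = 1 := congrArg Subtype.val h1
  have h3 := inv_mul_eq_one.1 h2
  calc φ y = k * (k⁻¹ * φ y * k) * k⁻¹ := by group
    _ = k * y * k⁻¹ := by rw [← h3]

end General

variable {F : Type*} [Field F] [Fintype F] {hF : Fintype.card F = 2 ^ 2}

/-! ### The semilinear map -/

/-- the semi-isometry -/
def sl (A : GU 6 F 2) (ρ : F ≃+* F) (x : Fin 6 → F) : Fin 6 → F := gm A *ᵥ fun i => ρ (x i)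

theorem sl_add (A : GU 6 F 2) (ρ : F ≃+* F) (x y : Fin 6 → F) : sl A ρ (x + y) = sl A ρ x + sl A ρ y := by
  rw [sl, sl, sl, ← mulVec_add]
  congr 1
  funext i
  simp

theorem sl_smul (A : GU 6 F 2) (ρ : F ≃+* F) (c : F) (x : Fin 6 → F) : sl A ρ (c • x) = ρ c • sl A ρ x := by
  rw [sl, sl, ← mulVec_smul]
  congr 1
  funext i
  simp

theorem sl_zero (A : GU 6 F 2) (ρ : F ≃+* F) : sl A ρ 0 = 0 := by
  have := sl_smul A ρ 0 0
  rwa [zero_smul, map_zero, zero_smul] at this

theorem herm_sl (A : GU 6 F 2) (ρ : F ≃+* F) (x y : Fin 6 → F) :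
    hermForm 6 F 2 (sl A ρ x) (sl A ρ y) = ρ (hermForm 6 F 2 x y) := herm_semi A ρ x y

theorem act_sl (A : GU 6 F 2) (ρ : F ≃+* F) (g : SU 6 F 2) (x : Fin 6 → F) :
    act (semiConj A ρ g) (sl A ρ x) = sl A ρ (act g x) := act_semiConj A ρ g x

theorem sl_eq_zero {A : GU 6 F 2} {ρ : F ≃+* F} {x : Fin 6 → F} (h : sl A ρ x = 0) : x = 0 := by
  have h1 : (fun i => ρ (x i)) = 0 := by
    have := gm_inv_mulVec A (fun i => ρ (x i))
    rw [← this]
    show gm A⁻¹ *ᵥ (sl A ρ x) = 0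
    rw [h, mulVec_zero]
  funext i
  have := congrFun h1 i
  simpa using this

theorem toAut_tau' (hF : Fintype.card F = 2 ^ 2) (A : GU 6 F 2) (ρ : F ≃+* F) {v : Fin 6 → F}
    (hv : hermForm 6 F 2 v v = 0) : toAut A ρ (tau hF v) = tau hF (sl A ρ v) := by
  have h1 := toAut_tau hF A ρ (r := 1) (by rw [c0_eq, map_one]; ring) hv
  rwa [one_smul] at h1

theorem fr3_sl {A : GU 6 F 2} {ρ : F ≃+* F} {u v w : Fin 6 → F} (h : Fr3 u v w) :
    Fr3 (sl A ρ u) (sl A ρ v) (sl A ρ w) := by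
  refine ⟨by rw [herm_sl, h.uu, map_zero], by rw [herm_sl, h.vv, map_zero], by rw [herm_sl, h.ww, map_zero],
    by rw [herm_sl, h.uv, map_zero], by rw [herm_sl, h.uw, map_zero], by rw [herm_sl, h.vw, map_zero], ?_⟩
  intro a b c habc
  have h1 : sl A ρ (ρ.symm a • u + ρ.symm b • v + ρ.symm c • w) = 0 := by
    rw [sl_add, sl_add, sl_smul, sl_smul, sl_smul, ρ.apply_symm_apply, ρ.apply_symm_apply,
      ρ.apply_symm_apply, habc]
  have h2 := h.ind _ _ _ (sl_eq_zero h1)
  simpa using h2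

/-! ### The action on the lifts -/

variable {K : Type u} [Group K] {π : K →* PSU 6 F 2} {lam : (Fin 6 → F) → K}

/-- automorphisms permute the normalised lifts -/
theorem map_lam (S : Sys hF π lam) (hp : IsPGroup 2 π.ker) {φ : MulAut K}
    {A : GU 6 F 2} {ρ : F ≃+* F} (hA : ∀ k, π (φ k) = toAut A ρ (π k)) {v : Fin 6 → F}
    (hv : hermForm 6 F 2 v v = 0) : φ (lam v) = lam (sl A ρ v) := by
  have hsv : ∀ v, hermForm 6 F 2 v v = 0 → hermForm 6 F 2 (sl A ρ v) (sl A ρ v) = 0 := fun v hv => by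
    rw [herm_sl, hv, map_zero]
  -- the difference
  have hker : ∀ v, hermForm 6 F 2 v v = 0 → π ((lam (sl A ρ v))⁻¹ * φ (lam v)) = 1 := by
    intro v hv
    rw [map_mul, map_inv, hA, S.pi v hv, S.pi _ (hsv v hv), toAut_tau' hF A ρ hv, inv_mul_cancel]
  have hconj : ∀ (g : SU 6 F 2) (v : Fin 6 → F), hermForm 6 F 2 v v = 0 →
      (lam (sl A ρ (act g v)))⁻¹ * φ (lam (act g v)) = (lam (sl A ρ v))⁻¹ * φ (lam v) := by
    intro g v hv
    obtain ⟨k, hk⟩ := S.surj (pr 6 F 2 g)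
    have h1 : π (φ k) = pr 6 F 2 (semiConj A ρ g) := by rw [hA, hk, toAut_pr]
    have h2 := S.conj (φ k) (semiConj A ρ g) (sl A ρ v) (hsv v hv) h1
    rw [act_sl] at h2
    have h3 := S.conj k g v hv hk
    rw [← h2, ← h3, map_mul, map_mul, map_inv]
    have h4 := S.cen _ (hker v hv) (φ k)
    calc (φ k * lam (sl A ρ v) * (φ k)⁻¹)⁻¹ * (φ k * φ (lam v) * (φ k)⁻¹)
        = φ k * ((lam (sl A ρ v))⁻¹ * φ (lam v)) * (φ k)⁻¹ := by group
      _ = (lam (sl A ρ v))⁻¹ * φ (lam v) := by rw [h4, mul_inv_cancel_right]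
  have hsmul : ∀ (c : F) (v : Fin 6 → F), c ≠ 0 → hermForm 6 F 2 v v = 0 →
      (lam (sl A ρ (c • v)))⁻¹ * φ (lam (c • v)) = (lam (sl A ρ v))⁻¹ * φ (lam v) := by
    intro c v hc hv
    rw [S.smul c v hc hv, sl_smul, S.smul (ρ c) (sl A ρ v) ((map_ne_zero ρ).2 hc) (hsv v hv)]
  obtain ⟨ω, hω⟩ := exists_omega hF
  have hρω : (ρ ω) ^ 2 + ρ ω + 1 = 0 := by
    have := congrArg ρ hω
    simpa using this
  obtain ⟨a, b, ha0, hb0, ha, hb, hab, hne⟩ := exists_line hF
  set ζ := (lam (sl A ρ a))⁻¹ * φ (lam a) with hζ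
  have hζ1 : π ζ = 1 := hker a ha
  have hcst : ∀ v : Fin 6 → F, v ≠ 0 → hermForm 6 F 2 v v = 0 → φ (lam v) = lam (sl A ρ v) * ζ := by
    intro v h0 hv
    obtain ⟨g, c, hc, hg⟩ := exists_map hF a v ha0 h0 ha hv
    have h1 := hconj g a ha
    rw [hg, hsmul c v hc hv] at h1
    rw [hζ, ← h1, mul_inv_cancel_left]
  -- the line
  have hind : ∀ x y : F, x • a + y • b = 0 → x = 0 ∧ y = 0 := by
    intro x y hxy
    have hy : y = 0 := by
      by_contra hy
      apply hne
      refine ⟨-(y⁻¹ * x), ?_⟩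
      have : y • b = -(x • a) := by
        rw [eq_neg_iff_add_eq_zero, add_comm]; exact hxy
      rw [neg_smul, mul_smul, ← smul_neg, ← this, smul_smul, inv_mul_cancel₀ hy, one_smul]
    subst hy
    rw [zero_smul, add_zero] at hxy
    exact ⟨(smul_eq_zero.1 hxy).resolve_right ha0, rfl⟩
  have hind' : ∀ x y : F, x • sl A ρ a + y • sl A ρ b = 0 → x = 0 ∧ y = 0 := by
    intro x y hxy
    have h1 : sl A ρ (ρ.symm x • a + ρ.symm y • b) = 0 := by
      rw [sl_add, sl_smul, sl_smul, ρ.apply_symm_apply, ρ.apply_symm_apply, hxy]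
    have h2 := hind _ _ (sl_eq_zero h1)
    simpa using h2
  have hpt : ∀ c : F, c • a + b ≠ 0 ∧ hermForm 6 F 2 (c • a + b) (c • a + b) = 0 := by
    intro c
    refine ⟨fun h => hne ⟨-c, ?_⟩, ?_⟩
    · rw [neg_smul]; exact eq_neg_of_add_eq_zero_right h
    · rw [herm_add_left, herm_add_right hF, herm_add_right hF, herm_smul_left, herm_smul_left,
        herm_smul_right, herm_smul_right, ha, hb, hab, herm_eq_zero_swap hF hab]
      ring
  have l1 := S.line a b ω ha hb hab hind hω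
  have l2 := S.line (sl A ρ a) (sl A ρ b) (ρ ω) (hsv a ha) (hsv b hb) (by rw [herm_sl, hab, map_zero]) hind' hρω
  have p1 := hpt 1
  rw [one_smul] at p1
  have l3 := congrArg φ l1
  rw [map_mul, map_mul, map_mul, map_mul, map_one, hcst a ha0 ha, hcst b hb0 hb, hcst _ p1.1 p1.2,
    hcst _ (hpt _).1 (hpt _).2, hcst _ (hpt _).1 (hpt _).2, sl_add, sl_add, sl_add, sl_smul, sl_smul,
    map_pow] at l3
  have hζc := S.cen ζ hζ1
  have h5 : ζ ^ 5 = 1 := by
    have h6 : ∀ n : ℕ, ∀ x y : K, x * ζ ^ n * (y * ζ) = x * y * ζ ^ (n + 1) := fun n x y => by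
      have h7 : y * ζ ^ n = ζ ^ n * y := by
        induction n with
        | zero => simp
        | succ n ih => rw [pow_succ, ← mul_assoc, ih, mul_assoc, hζc, ← mul_assoc]
      rw [mul_assoc, ← mul_assoc (ζ ^ n), ← h7, pow_succ]; group
    have h7 := h6 1
    rw [pow_one] at h7
    rw [h7, h6 2, h6 3, h6 4, l2, one_mul] at l3
    exact l3
  have h8 : (⟨ζ, hζ1⟩ : π.ker) = 1 :=
    eq_one_of_pow hp (n := 5) (by decide) (Subtype.ext (by rw [Subgroup.coe_pow]; exact h5))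
  have h9 : ζ = 1 := congrArg Subtype.val h8
  by_cases h0 : v = 0
  · rw [h0, sl_zero, S.zero, map_one]
  · rw [hcst v h0 hv, h9, mul_one]

/-- the product over the hyperoval does not depend on the choice of `ω` -/
theorem ov_omega (S : Sys hF π lam) {u v w : Fin 6 → F} (h : Fr3 u v w) {ω ω' : F} (hω : ω ^ 2 + ω + 1 = 0)
    (hω' : ω' ^ 2 + ω' + 1 = 0) (t : F) : ov lam ω' t u v w = ov lam ω t u v w := by
  have h3 := omega_cubed hω
  have hcase : ω' = ω ∨ ω' = ω ^ 2 := by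
    have : (ω' - ω) * (ω' - ω ^ 2) = 0 := by linear_combination hω' - ω' * hω + h3
    rcases mul_eq_zero.1 this with h5 | h5
    · left; linear_combination h5
    · right; linear_combination h5
  rcases hcase with rfl | rfl
  · rfl
  · have h4 : (ω ^ 2) ^ 2 = ω := by linear_combination ω * h3
    rw [ov, ov, h4]
    have i2 : hermForm 6 F 2 (u + ω • v + (t * ω ^ 2) • w) (u + ω • v + (t * ω ^ 2) • w) = 0 := by
      simpa using iso3 hF h 1 ω (t * ω ^ 2) 1 ω (t * ω ^ 2)
    have i3 : hermForm 6 F 2 (u + ω ^ 2 • v + (t * ω) • w) (u + ω ^ 2 • v + (t * ω) • w) = 0 := by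
      simpa using iso3 hF h 1 (ω ^ 2) (t * ω) 1 (ω ^ 2) (t * ω)
    have i4 : hermForm 6 F 2 (u + ω • v + (t * ω ^ 2) • w) (u + ω ^ 2 • v + (t * ω) • w) = 0 := by
      simpa using iso3 hF h 1 ω (t * ω ^ 2) 1 (ω ^ 2) (t * ω)
    rw [mul_assoc _ (lam (u + ω ^ 2 • v + (t * ω) • w)), comm_lam S i3 i2 i4, ← mul_assoc]

/-- the image of a hyperoval product -/
theorem map_ov (S : Sys hF π lam) (hp : IsPGroup 2 π.ker) {φ : MulAut K} (hφ : ∀ z, π z = 1 → φ z = z)
    {A : GU 6 F 2} {ρ : F ≃+* F} (hA : ∀ k, π (φ k) = toAut A ρ (π k)) {u v w : Fin 6 → F} (h : Fr3 u v w)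
    {ω : F} (hω : ω ^ 2 + ω + 1 = 0) {t : F} (ht : t ^ 3 = 1) :
    ov lam ω t u v w = ov lam ω (ρ t) (sl A ρ u) (sl A ρ v) (sl A ρ w) := by
  have i1 : hermForm 6 F 2 (u + v + t • w) (u + v + t • w) = 0 := by
    simpa using iso3 hF h 1 1 t 1 1 t
  have i2 : hermForm 6 F 2 (u + ω • v + (t * ω ^ 2) • w) (u + ω • v + (t * ω ^ 2) • w) = 0 := by
    simpa using iso3 hF h 1 ω (t * ω ^ 2) 1 ω (t * ω ^ 2)
  have i3 : hermForm 6 F 2 (u + ω ^ 2 • v + (t * ω) • w) (u + ω ^ 2 • v + (t * ω) • w) = 0 := by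
    simpa using iso3 hF h 1 (ω ^ 2) (t * ω) 1 (ω ^ 2) (t * ω)
  have hρω : (ρ ω) ^ 2 + ρ ω + 1 = 0 := by
    have := congrArg ρ hω
    simpa using this
  have m : ∀ {x : Fin 6 → F}, hermForm 6 F 2 x x = 0 → φ (lam x) = lam (sl A ρ x) := fun hx =>
    map_lam S hp hA hx
  have h1 := hφ _ (pi_ov S h hω ht)
  rw [ov, map_mul, map_mul, map_mul, map_mul, map_mul, m h.uu, m h.vv, m h.ww, m i1, m i2, m i3] at h1
  simp only [sl_add, sl_smul, map_mul, map_pow] at h1
  rw [← ov_omega S (fr3_sl h) hω hρω (ρ t)]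
  exact h1.symm

/-! ### A unitary matrix fixing a maximal totally isotropic subspace pointwise -/

theorem det_eq_one (hF : Fintype.card F = 2 ^ 2) {M : Matrix (Fin 6) (Fin 6) F}
    (hM : ∀ x y, hermForm 6 F 2 (M *ᵥ x) (M *ᵥ y) = hermForm 6 F 2 x y) {u v w : Fin 6 → F} (h : Fr3 u v w)
    (hu : M *ᵥ u = u) (hv : M *ᵥ v = v) (hw : M *ᵥ w = w) : M.det = 1 := by
  have h2 := two_eq_zero hF
  have hMM : M * M = 1 := by
    apply Matrix.ext_of_mulVec_single
    intro i
    set x : Fin 6 → F := Pi.single i 1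
    rw [one_mulVec, ← mulVec_mulVec]
    have hfix : ∀ y, M *ᵥ y = y → hermForm 6 F 2 (M *ᵥ x - x) y = 0 := by
      intro y hy
      have h5 := hM x y
      rw [hy] at h5
      rw [sub_eq_add_neg, herm_add_left, h5, ← neg_one_smul F x, herm_smul_left]
      ring
    obtain ⟨a, b, c, habc⟩ := mem_span_of_perp hF h (hfix u hu) (hfix v hv) (hfix w hw)
    have h5 : M *ᵥ (M *ᵥ x - x) = M *ᵥ x - x := by
      rw [habc, mulVec_add, mulVec_add, mulVec_smul, mulVec_smul, mulVec_smul, hu, hv, hw]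
    rw [mulVec_sub] at h5
    have h6 : M *ᵥ (M *ᵥ x) = M *ᵥ x - x + M *ᵥ x := by rw [← h5]; abel
    rw [h6]
    funext j
    simp only [Pi.add_apply, Pi.sub_apply]
    linear_combination ((M *ᵥ x) j - x j) * h2
  have h3 : M.det * M.det = 1 := by rw [← det_mul, hMM, det_one]
  have h4 : (M.det - 1) * (M.det - 1) = 0 := by linear_combination h3 - (M.det - 1) * h2
  have h5 := mul_self_eq_zero.1 h4
  linear_combination h5

/-- a ring automorphism fixing `ω` -/
theorem ringAut_eq_one (hF : Fintype.card F = 2 ^ 2) {ω : F} (hω : ω ^ 2 + ω + 1 = 0) {ρ : F ≃+* F}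
    (h : ρ ω = ω) : ρ = 1 := by
  ext x
  show ρ x = x
  by_cases h0 : x = 0
  · rw [h0, map_zero]
  · rcases mu_cases hω (pow_three hF h0) with rfl | rfl | rfl
    · exact map_one ρ
    · exact h
    · rw [map_pow, h]

/-- **Innerness**, over a homomorphism. -/
theorem inner_of (hF : Fintype.card F = 2 ^ 2) [Finite K] (hperf : commutator K = ⊤)
    (hs : Function.Surjective π) (hk : π.ker = center K) (hp : IsPGroup 2 (center K))
    (h4 : 2 < Nat.card (center K)) {φ : MulAut K} (hφ : ∀ z ∈ center K, φ z = z) :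
    ∃ k, ∀ y, φ y = k * y * k⁻¹ := by
  have hcen : ∀ z, π z = 1 → ∀ c : K, c * z = z * c := fun z hz =>
    mem_center_iff.1 (by rw [← hk]; exact hz)
  have hφ' : ∀ z, π z = 1 → φ z = z := fun z hz => hφ z (by rw [← hk]; exact hz)
  have hp' : IsPGroup 2 π.ker := by rw [hk]; exact hp
  have h4' : 2 < Nat.card π.ker := by rw [hk]; exact h4
  obtain ⟨lam, S⟩ := exists_lamK hF hs hcen hp'
  obtain ⟨β, hβ⟩ := exists_bar hs hk φ
  obtain ⟨A, ρ, hAρ⟩ := ClassicalGeometry.PSUAutMain.exists_toAut hF (by norm_num) (by norm_num) β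
  have hA : ∀ k, π (φ k) = toAut A ρ (π k) := fun k => by rw [← hβ, hAρ]
  obtain ⟨ω, hω⟩ := exists_omega hF
  have h3 := omega_cubed hω
  have h := fr3_std (F := F) hF
  have h' := fr3_sl (A := A) (ρ := ρ) h
  obtain ⟨g, a, b, c, ha, hb, hc, hgu, hgv, hgw⟩ := trans_frames_SU hF h' h
  have key : ∀ t : F, t ^ 3 = 1 → t = ρ t * (a * b * c) := by
    intro t ht
    have hρt : ρ t ^ 3 = 1 := by rw [← map_pow, ht, map_one]
    have habc : (a * b * c) ^ 3 = 1 := by
      have e1 := pow_three hF ha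
      have e2 := pow_three hF hb
      have e3 := pow_three hF hc
      linear_combination b ^ 3 * c ^ 3 * e1 + c ^ 3 * e2 + e3
    apply ov_injective S hperf hp' h4' h hω ht
    · rw [mul_pow, hρt, habc, one_mul]
    · obtain ⟨k, hkg⟩ := S.surj (pr 6 F 2 g)
      have h5 := conj_ov S h' ω (ρ t) hkg
      rw [hgu, hgv, hgw, ov_smul S h hω ha hb hc, S.cen _ (pi_ov S h' hω hρt), mul_inv_cancel_right] at h5
      rw [map_ov S hp' hφ' hA h hω ht, h5]
  have habc : a * b * c = 1 := by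
    have := key 1 (one_pow 3)
    rw [map_one, one_mul] at this
    exact this.symm
  have hρ1 : ρ = 1 := by
    apply ringAut_eq_one hF hω
    have := key ω h3
    rw [habc, mul_one] at this
    exact this.symm
  subst hρ1
  -- the diagonal element
  have ha3 := pow_three hF ha
  have hb3 := pow_three hF hb
  have hc3 := pow_three hF hc
  have hd3 : ∀ i, (![a ^ 2, a ^ 2, b ^ 2, b ^ 2, c ^ 2, c ^ 2] : Fin 6 → F) i ^ 3 = 1 := by
    have e : ∀ x : F, x ^ 3 = 1 → (x ^ 2) ^ 3 = 1 := fun x hx => by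
      rw [← pow_mul, mul_comm, pow_mul, hx, one_pow]
    intro i
    fin_cases i
    exacts [e a ha3, e a ha3, e b hb3, e b hb3, e c hc3, e c hc3]
  let D : SU 6 F 2 := mk (Matrix.diagonal ![a ^ 2, a ^ 2, b ^ 2, b ^ 2, c ^ 2, c ^ 2])
    (by
      rw [Matrix.det_diagonal]
      simp [Fin.prod_univ_succ]
      have : (a * b * c) ^ 4 = 1 := by rw [habc, one_pow]
      linear_combination this)
    (by
      intro x y
      rw [herm_def, herm_def]
      apply Finset.sum_congr rfl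
      intro i _
      rw [Matrix.mulVec_diagonal, Matrix.mulVec_diagonal]
      linear_combination (x i * y i ^ 2) * hd3 i)
  have hDu : act D (a • (![1, 1, 0, 0, 0, 0] : Fin 6 → F)) = ![1, 1, 0, 0, 0, 0] := by
    rw [act_mk]
    funext i
    fin_cases i <;> simp [Matrix.mulVec_diagonal] <;> linear_combination ha3
  have hDv : act D (b • (![0, 0, 1, 1, 0, 0] : Fin 6 → F)) = ![0, 0, 1, 1, 0, 0] := by
    rw [act_mk]
    funext i
    fin_cases i <;> simp [Matrix.mulVec_diagonal] <;> linear_combination hb3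
  have hDw : act D (c • (![0, 0, 0, 0, 1, 1] : Fin 6 → F)) = ![0, 0, 0, 0, 1, 1] := by
    rw [act_mk]
    funext i
    fin_cases i <;> simp [Matrix.mulVec_diagonal] <;> linear_combination hc3
  -- the element of `GU`
  obtain ⟨G, hG⟩ := Cfsg.Agent.OddHalf.Table.OutUSix.exists_gm (D * g)
  have hgm : ∀ x, gm (G * A) *ᵥ x = act D (act g (sl A 1 x)) := by
    intro x
    rw [gm_mul, ← mulVec_mulVec, hG, ← act_mul]
    rfl
  have hdet : (gm (G * A)).det = 1 :=
    det_eq_one hF (fun x y => herm_gm _ x y) h (by rw [hgm, hgu, hDu]) (by rw [hgm, hgv, hDv])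
      (by rw [hgm, hgw, hDw])
  let B : SU 6 F 2 := Cfsg.Agent.LieClassical.HermSiegel.mkSU (gm (G * A)) hdet (fun x y => herm_gm _ x y)
  have hB : f₁ (G * A) = MulAut.conj (pr 6 F 2 B) := f₁_eq_conj (G * A) B rfl
  have hG1 : f₁ G = MulAut.conj (pr 6 F 2 (D * g)) := f₁_eq_conj G (D * g) hG
  have hA1 : (toAut A 1 : MulAut (PSU 6 F 2)) = MulAut.conj ((pr 6 F 2 (D * g))⁻¹ * pr 6 F 2 B) := by
    rw [toAut_eq, map_one, mul_one, map_mul, map_inv, ← hG1, ← hB, map_mul, inv_mul_cancel_left]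
  refine inner_of_bar hperf hs hk (x := (pr 6 F 2 (D * g))⁻¹ * pr 6 F 2 B) fun k => ?_
  rw [hA, hA1, MulAut.conj_apply]

/-- **Innerness for `2².U₆(2)`.** -/
theorem inner {K : Type u} [Group K] [Finite K] (hp : commutator K = ⊤) (h4 : Nat.card (center K) = 4)
    (hX : Cut.XU62 (K ⧸ center K)) (α : MulAut K) (hα : ∀ z ∈ center K, α z = z) :
    ∃ k, ∀ x, α x = k * x * k⁻¹ := by
  obtain ⟨F, iF, iF', hF, ⟨e⟩⟩ := hX
  let π : K →* PSU 6 F 2 := e.toMonoidHom.comp (QuotientGroup.mk' (center K))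
  have hk : π.ker = center K := by
    ext x
    rw [MonoidHom.mem_ker]
    show e (QuotientGroup.mk' (center K) x) = 1 ↔ _
    rw [map_eq_one_iff e e.injective]
    exact QuotientGroup.eq_one_iff x
  have hs : Function.Surjective π := e.surjective.comp (QuotientGroup.mk'_surjective _)
  exact inner_of (π := π) (hF.trans (by norm_num)) hp hs hk (IsPGroup.of_card (n := 2) (by rw [h4]; norm_num))
    (by omega) hα

end Cfsg.Agent.OddHalf.D9.RankTwo.InnU

end

-- merged: Cfsg.Agent.OddHalf.D9.RankTwo.RowsU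
section

/-!
# The rows `U₆(2)` of the multiplier tables and of the centres of rank two (helper103)

`u62`: `TwoRows.u62`; `u62All`: `VRows.u62`; `inner_for`: innerness; `v_u62`: the row `2².U₆(2)`.
-/

set_option autoImplicit false

namespace Cfsg.Agent.OddHalf.D9.RankTwo.RowsU

open Subgroup Cfsg.Agent.OddHalf.D9.Cut Cfsg.Agent.OddHalf.D9.MultOf

universe u

/-- every central 2-subgroup: exponent two, order at most four -/
theorem le_four {K : Type u} [Group K] [Finite K] (hp : _root_.commutator K = ⊤) (h2 : IsPGroup 2 (center K))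
    (hX : XU62 (K ⧸ center K)) : (∀ z ∈ center K, z * z = 1) ∧ Nat.card (center K) ≤ 4 := by
  obtain ⟨F, iF, iF2, hF, ⟨e⟩⟩ := hX
  exact LamOval.card_le hp (center K) le_rfl h2 hF e

/-- **`TwoRows.u62`** -/
theorem u62 : Bd.{u} 2 (fun X _ => XU62 X) := by
  intro K _ hK hX
  have := hK.1
  have hc := hK.2.2.2
  have h := le_four hK.2.1.1.commutator_eq_top hK.2.2.1 hX
  have h1 : Nat.card (center K) ≤ 2 :=
    Cfsg.Agent.KFacts.OddLift.Frat.card_le_two_of_cyclic (Z := center K)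
      (fun z => Subtype.ext (h.1 z.1 z.2))
  have h3 := Nat.card_pos (α := center K)
  rcases (show Nat.card (center K) = 1 ∨ Nat.card (center K) = 2 by omega) with h2 | h2 <;> rw [h2]
  exact one_dvd 2

/-- **`VRows.u62`** -/
theorem u62All : Cfsg.Agent.OddHalf.D4.MultOf.BdAll.{u} (fun X _ => XU62 X) := by
  intro K _ hf hq h2 hX
  have h := le_four hq.1.commutator_eq_top h2 hX
  obtain ⟨k, hk⟩ := IsPGroup.iff_card.1 h2
  rw [hk]
  have h5 := h.2
  rw [hk] at h5
  have : k ≤ 2 := by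
    by_contra hc
    have h6 : 2 ^ 3 ≤ 2 ^ k := Nat.pow_le_pow_right (by norm_num) (by omega)
    omega
  exact pow_dvd_pow 2 this

/-- **Innerness** -/
theorem inner_for : RowsD4.InnerFor.{u} (fun X _ => XU62 X) := by
  intro K _ hf hp h4 hX
  exact InnU.inner hp h4 hX

/-- **The row `2².U₆(2)`** -/
theorem v_u62 (T : Core.MainTI.{u}) (R : Core.Rows) :
    RowsD4.RowA.{u} (fun K _ => Cfsg.Agent.OddHalf.D4.Cut.Vier (fun X _ => XU62 X) K) :=
  RowsD4.v_u62 T R inner_for

end Cfsg.Agent.OddHalf.D9.RankTwo.RowsU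

end
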